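import Groth.Agent.Lib.HLVT.Sdim
import Mathlib.Order.ConditionallyCompleteLattice.Indexed

/-!
# Connectedness dimension of `R/a` and the arithmetic rank of `a`
-/

universe u

open CategoryTheory IsLocalRing

namespace GrothLib.HLVT

variable {R : Type u} [CommRing R]

/-- Transfer of `cd` between ideals with the same zero set. -/
theorem cdLE_of_radical [IsNoetherianRing R] {I J : Ideal R}
    (hV : ∀ P : Ideal R, P.IsPrime → (I ≤ P ↔ J ≤ P)) {k : ℕ} (h : LocCoh.CdLE R I k) :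
    LocCoh.CdLE R J k := by
  have h1 : LocCoh.CdLE R (I ⊔ J) k :=
    cdLE_of_le le_sup_left (fun P hP hle => sup_le hle ((hV P hP).1 hle)) h
  intro M _ _ i hi
  exact @Function.Surjective.subsingleton _ _ _ (h1 M i hi)
    (GrothLib.LC.hmap_surjective_of_punctual (ModuleCat.of R M) i J (I ⊔ J) le_sup_right
      fun p hp hp' => absurd (sup_le ((hV _ p.isPrime).2 hp) hp) hp')

theorem ringKrullDim_quotient_add_one_le {P Q : Ideal R} [P.IsPrime] (hlt : P < Q) :
    ringKrullDim (R ⧸ Q) + 1 ≤ ringKrullDim (R ⧸ P) := by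
  obtain ⟨x, hx, hx'⟩ := SetLike.exists_of_lt hlt
  have hne : Ideal.Quotient.mk P x ∈ nonZeroDivisors (R ⧸ P) :=
    mem_nonZeroDivisors_of_ne_zero fun h => hx' (Ideal.Quotient.eq_zero_iff_mem.1 h)
  refine le_trans (add_le_add (ringKrullDim_le_of_surjective
    (R := (R ⧸ P) ⧸ Ideal.span {Ideal.Quotient.mk P x})
    (Ideal.Quotient.lift _ (Ideal.Quotient.factor hlt.le) ?_)
    (Ideal.Quotient.lift_surjective_of_surjective _ _ (Ideal.Quotient.factor_surjective hlt.le))) le_rfl)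
    (ringKrullDim_quotient_succ_le_of_nonZeroDivisor hne)
  intro z hz
  obtain ⟨c, rfl⟩ := Ideal.mem_span_singleton.1 hz
  obtain ⟨c, rfl⟩ := Ideal.Quotient.mk_surjective c
  simpa using (Ideal.Quotient.eq_zero_iff_mem.2 (Ideal.mul_mem_right c Q hx))

theorem zeroLocus_sInf {A : Set (Ideal R)} (hA : A.Finite) :
    PrimeSpectrum.zeroLocus ((sInf A : Ideal R) : Set R) =
      ⋃₀ ((fun P : Ideal R => PrimeSpectrum.zeroLocus (P : Set R)) '' A) := by
  ext x
  constructor
  · intro hx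
    have h2 : hA.toFinset.inf id ≤ x.asIdeal :=
      le_trans (le_sInf fun P hP => Finset.inf_le (hA.mem_toFinset.2 hP)) hx
    obtain ⟨P, hP, hle⟩ := x.isPrime.inf_le'.1 h2
    exact ⟨_, ⟨P, hA.mem_toFinset.1 hP, rfl⟩, hle⟩
  · rintro ⟨_, ⟨P, hP, rfl⟩, hx⟩
    exact (sInf_le hP).trans hx

variable [IsNoetherianRing R] [IsLocalRing R]

/-- Two families of minimal primes without common member. -/
theorem lt_dim_of_disjoint (A B : Set (Ideal R)) (hA : A ⊆ minimalPrimes R) (hB : B ⊆ minimalPrimes R)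
    (hAn : A.Nonempty) (hdisj : ∀ P ∈ A, P ∉ B) :
    ringKrullDim (R ⧸ (sInf A ⊔ sInf B)) < ringKrullDim (R ⧸ sInf A) := by
  have hfin := minimalPrimes.finite_of_isNoetherianRing R
  obtain ⟨P₁, hP₁⟩ := hAn
  have hne : sInf A ≠ ⊤ := ne_top_of_le_ne_top (hA hP₁).1.1.ne_top (sInf_le hP₁)
  obtain ⟨e, he⟩ := exists_nat_ringKrullDim_quotient hne
  rw [he]
  have hkey : ∀ Q : Ideal R, Q.IsPrime → sInf A ⊔ sInf B ≤ Q →
      ringKrullDim (R ⧸ Q) + 1 ≤ (e : WithBot ℕ∞) := fun Q hQ hle => by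
    obtain ⟨_, ⟨P, hP, rfl⟩, hPQ⟩ := (zeroLocus_sInf (hfin.subset hA)).le
      (show (⟨Q, hQ⟩ : PrimeSpectrum R) ∈ _ from le_sup_left.trans hle)
    obtain ⟨_, ⟨P', hP', rfl⟩, hPQ'⟩ := (zeroLocus_sInf (hfin.subset hB)).le
      (show (⟨Q, hQ⟩ : PrimeSpectrum R) ∈ _ from le_sup_right.trans hle)
    have hP0 := (hA hP).1.1
    have hlt : P < Q := lt_of_le_of_ne hPQ fun h => hdisj P hP (by
      have h1 : P' ≤ P := h ▸ hPQ'
      rwa [le_antisymm ((hA hP).2 (hB hP').1 h1) h1])
    rw [← he]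
    exact (ringKrullDim_quotient_add_one_le hlt).trans
      (ringKrullDim_le_of_surjective _ (Ideal.Quotient.factor_surjective (sInf_le hP)))
  by_cases htop : sInf A ⊔ sInf B = ⊤
  · have : Subsingleton (R ⧸ (sInf A ⊔ sInf B)) := Ideal.Quotient.subsingleton_iff.2 htop
    rw [ringKrullDim_eq_bot_of_subsingleton]
    exact WithBot.bot_lt_coe _
  have he1 : ringKrullDim (R ⧸ (sInf A ⊔ sInf B)) ≤ ((e - 1 : ℕ) : WithBot ℕ∞) := by
    refine ringKrullDim_quotient_le_of_forall _ _ fun Q hQ hle => ?_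
    obtain ⟨f, hf⟩ := exists_nat_ringKrullDim_quotient hQ.ne_top
    have := hkey Q hQ hle
    rw [hf] at this ⊢
    have h' : f + 1 ≤ e := by exact_mod_cast this
    exact_mod_cast (show f ≤ e - 1 by omega)
  have he0 : 1 ≤ e := by
    have := hkey (maximalIdeal R) inferInstance (le_maximalIdeal htop)
    obtain ⟨f, hf⟩ := exists_nat_ringKrullDim_quotient (maximalIdeal.isMaximal R).ne_top
    rw [hf] at this
    have h' : f + 1 ≤ e := by exact_mod_cast this
    omega
  exact he1.trans_lt (by exact_mod_cast (show e - 1 < e by omega))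

/-- The connectedness dimension is realised by two ideals. -/
theorem exists_connDim_pair :
    ringKrullDim R ≤ LocCoh.connDim (PrimeSpectrum R) ∨ ∃ I J : Ideal R, I ≠ ⊤ ∧ J ≠ ⊤ ∧
      I ⊓ J ≤ nilradical R ∧ ringKrullDim (R ⧸ (I ⊔ J)) ≤ LocCoh.connDim (PrimeSpectrum R) ∧
      ringKrullDim (R ⧸ (I ⊔ J)) < ringKrullDim (R ⧸ I) ∧
      ringKrullDim (R ⧸ (I ⊔ J)) < ringKrullDim (R ⧸ J) := by
  classical
  let T := PrimeSpectrum R
  let S := {p : Set (Set T) × Set (Set T) // p.1 ⊆ irreducibleComponents T ∧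
    p.2 ⊆ irreducibleComponents T ∧ p.1.Nonempty ∧ p.2.Nonempty ∧ p.1 ∪ p.2 = irreducibleComponents T}
  have hC : (irreducibleComponents T).Nonempty :=
    ⟨_, irreducibleComponent_mem_irreducibleComponents (Classical.arbitrary T)⟩
  have : Nonempty S := ⟨⟨(irreducibleComponents T, irreducibleComponents T),
    subset_rfl, subset_rfl, hC, hC, Set.union_self _⟩⟩
  obtain ⟨⟨⟨A, B⟩, hA, hB, hAn, hBn, hu⟩, hAB⟩ :=
    ciInf_mem (fun p : S => topologicalKrullDim ↥(⋃₀ p.1.1 ∩ ⋃₀ p.1.2))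
  have hconn : LocCoh.connDim T = topologicalKrullDim ↥(⋃₀ A ∩ ⋃₀ B) := by
    refine Eq.trans ?_ hAB.symm
    rw [GrothLib.ConnDim.connDim_eq_iInf]
    exact le_antisymm (le_iInf fun p => iInf_le_of_le p.1.1 (iInf_le_of_le p.1.2 (iInf_le_of_le p.2 le_rfl)))
      (le_iInf fun A => le_iInf fun B => le_iInf fun h => iInf_le (fun p : S => _) (⟨(A, B), h⟩ : S))
  by_cases hall : A = irreducibleComponents T ∧ B = irreducibleComponents T ∧
      (irreducibleComponents T).Subsingleton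
  · left
    show _ ≤ LocCoh.connDim T
    rw [hconn, hall.1, hall.2.1, sUnion_irreducibleComponents, Set.inter_univ, GrothLib.ConnDim.dim_univ,
      PrimeSpectrum.topologicalKrullDim_eq_ringKrullDim]
  right
  obtain ⟨A', hA', hA'n, hB'n, hsub⟩ : ∃ A' ⊆ irreducibleComponents T, A'.Nonempty ∧
      (irreducibleComponents T \ A').Nonempty ∧
      ⋃₀ A' ∩ ⋃₀ (irreducibleComponents T \ A') ⊆ ⋃₀ A ∩ ⋃₀ B := by
    by_cases h1 : A = irreducibleComponents T
    · by_cases h2 : B = irreducibleComponents T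
      · obtain ⟨C, hC, D, hD, hne⟩ : ∃ C ∈ irreducibleComponents T, ∃ D ∈ irreducibleComponents T, D ≠ C := by
          by_contra hc
          simp only [not_exists, not_and, not_not] at hc
          exact hall ⟨h1, h2, fun x hx y hy => hc y hy x hx⟩
        refine ⟨{C}, Set.singleton_subset_iff.2 hC, Set.singleton_nonempty C, ⟨D, hD, hne⟩, ?_⟩
        rw [h1, h2, sUnion_irreducibleComponents, Set.inter_univ]
        exact Set.subset_univ _
      · refine ⟨irreducibleComponents T \ B, Set.sdiff_subset, ?_, ?_, ?_⟩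
        · exact Set.sdiff_nonempty.2 fun h => h2 (hB.antisymm h)
        · rw [Set.sdiff_sdiff_cancel_left hB]; exact hBn
        · rw [Set.sdiff_sdiff_cancel_left hB, h1]
          exact Set.inter_subset_inter_left _ (Set.sUnion_mono Set.sdiff_subset)
    · refine ⟨A, hA, hAn, Set.sdiff_nonempty.2 fun h => h1 (hA.antisymm h),
        Set.inter_subset_inter_right _ (Set.sUnion_mono fun x hx => (hu.symm ▸ hx.1 : x ∈ A ∪ B).resolve_left hx.2)⟩
  let z : Ideal R → Set T := fun P => PrimeSpectrum.zeroLocus (P : Set R)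
  have hz : z '' minimalPrimes R = irreducibleComponents T := PrimeSpectrum.zeroLocus_minimalPrimes R
  let A0 : Set (Ideal R) := {P ∈ minimalPrimes R | z P ∈ A'}
  let B0 : Set (Ideal R) := {P ∈ minimalPrimes R | z P ∉ A'}
  have hfin := minimalPrimes.finite_of_isNoetherianRing R
  have hA0 : z '' A0 = A' := Set.ext fun C => ⟨by rintro ⟨P, hP, rfl⟩; exact hP.2, fun hC => by
    obtain ⟨P, hP, rfl⟩ := (hz.symm ▸ hA' hC : C ∈ z '' minimalPrimes R)
    exact ⟨P, ⟨hP, hC⟩, rfl⟩⟩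
  have hB0 : z '' B0 = irreducibleComponents T \ A' := Set.ext fun C => ⟨by
      rintro ⟨P, hP, rfl⟩
      exact ⟨hz ▸ ⟨P, hP.1, rfl⟩, hP.2⟩, fun hC => by
    obtain ⟨P, hP, rfl⟩ := (hz.symm ▸ hC.1 : C ∈ z '' minimalPrimes R)
    exact ⟨P, ⟨hP, hC.2⟩, rfl⟩⟩
  have hA0n : A0.Nonempty := Set.image_nonempty.1 (hA0.symm ▸ hA'n)
  have hB0n : B0.Nonempty := Set.image_nonempty.1 (hB0.symm ▸ hB'n)
  refine ⟨sInf A0, sInf B0, ?_, ?_, ?_, ?_, lt_dim_of_disjoint A0 B0 (fun P h => h.1) (fun P h => h.1) hA0n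
    fun P hP hP' => hP'.2 hP.2, ?_⟩
  · obtain ⟨P, hP⟩ := hA0n
    exact ne_top_of_le_ne_top hP.1.1.1.ne_top (sInf_le hP)
  · obtain ⟨P, hP⟩ := hB0n
    exact ne_top_of_le_ne_top hP.1.1.1.ne_top (sInf_le hP)
  · rw [nilradical, ← Ideal.sInf_minimalPrimes]
    refine le_sInf fun P hP => ?_
    by_cases h : z P ∈ A'
    · exact inf_le_left.trans (sInf_le ⟨hP, h⟩)
    · exact inf_le_right.trans (sInf_le ⟨hP, h⟩)
  · show _ ≤ LocCoh.connDim T
    rw [hconn, ← topologicalKrullDim_zeroLocus, PrimeSpectrum.zeroLocus_sup,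
      zeroLocus_sInf (hfin.subset fun P h => h.1), zeroLocus_sInf (hfin.subset fun P h => h.1), hA0, hB0]
    exact GrothLib.ConnDim.dim_mono hsub
  · rw [sup_comm]
    exact lt_dim_of_disjoint B0 A0 (fun P h => h.1) (fun P h => h.1) hB0n fun P hP hP' => hP.2 hP'.2

omit [IsLocalRing R] [IsNoetherianRing R] in
theorem ringKrullDim_quotient_comap {S : Type u} [CommRing S] (f : R →+* S) (hf : Function.Surjective f)
    (I : Ideal S) : ringKrullDim (R ⧸ I.comap f) = ringKrullDim (S ⧸ I) := by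
  let g : R →+* S ⧸ I := (Ideal.Quotient.mk I).comp f
  have hg : RingHom.ker g = I.comap f := by
    rw [show RingHom.ker g = (RingHom.ker (Ideal.Quotient.mk I)).comap f from (RingHom.comap_ker _ f).symm,
      Ideal.mk_ker]
  exact ringKrullDim_eq_of_ringEquiv ((Ideal.quotEquivOfEq hg.symm).trans
    (RingHom.quotientKerEquivOfSurjective (Ideal.Quotient.mk_surjective.comp hf)))

/-- `min (c(R) + 1, sdim R) ≤ c(R/a) + ara a + 1`. -/
theorem min_connDim_subdim_le_ara [IsAdicComplete (maximalIdeal R) R] (a : Ideal R) (ha : a ≠ ⊤)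
    (s : Finset R) (hs : (Ideal.span (s : Set R)).radical = a.radical) :
    min (LocCoh.connDim (PrimeSpectrum R) + 1) (LocCoh.subdim (PrimeSpectrum R)) ≤
      LocCoh.connDim (PrimeSpectrum (R ⧸ a)) + (s.card : WithBot ℕ∞) + 1 := by
  have : Nontrivial (R ⧸ a) := Ideal.Quotient.nontrivial_iff.2 ha
  have : IsLocalRing (R ⧸ a) := IsLocalRing.of_surjective' (Ideal.Quotient.mk a) Ideal.Quotient.mk_surjective
  have hV : ∀ P : Ideal R, P.IsPrime → (Ideal.span (s : Set R) ≤ P ↔ a ≤ P) := fun P hP => by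
    rw [← hP.radical_le_iff, hs, hP.radical_le_iff]
  rcases exists_connDim_pair (R := R ⧸ a) with h | ⟨I, J, hI, hJ, hIJ, hc, hlt, hlt'⟩
  · obtain ⟨e, he⟩ := exists_nat_ringKrullDim_quotient ha
    obtain ⟨P, hP⟩ := (Ideal.nonempty_minimalPrimes (I := (⊥ : Ideal R)) bot_ne_top)
    refine (min_le_right _ _).trans ((subdim_le P hP).trans ((ringKrullDim_quotient_le P).trans ?_))
    refine (ringKrullDim_le_cd_add e a s.card ha he.le (cdLE_of_radical hV (GrothLib.LC.cdLE_card s))).trans ?_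
    rw [he] at h
    refine le_trans ?_ (add_le_add (add_le_add h le_rfl) le_rfl)
    exact_mod_cast (show s.card + e ≤ e + s.card + 1 by omega)
  · let q := Ideal.Quotient.mk a
    have hq : Function.Surjective q := Ideal.Quotient.mk_surjective
    have hne : I ⊔ J ≠ ⊤ := ne_top_of_le_ne_top (maximalIdeal.isMaximal (R ⧸ a)).ne_top
      (sup_le (le_maximalIdeal hI) (le_maximalIdeal hJ))
    obtain ⟨d, hd⟩ := exists_nat_ringKrullDim_quotient hne
    have hsup : I.comap q ⊔ J.comap q = (I ⊔ J).comap q := by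
      rw [← (Ideal.comap_map_of_surjective' q hq (I.comap q ⊔ J.comap q)).trans (sup_eq_left.2 (le_sup_of_le_left (b := J.comap q)
        (Ideal.comap_mono (f := q) (bot_le : ⊥ ≤ I)))), Ideal.map_sup, Ideal.map_comap_of_surjective q hq,
        Ideal.map_comap_of_surjective q hq]
    have hk : LocCoh.CdLE R (I.comap q ⊓ J.comap q) s.card := cdLE_of_radical (fun P hP => by
      rw [hV P hP]
      constructor
      · intro hle x hx
        have h1 : q x ∈ nilradical (R ⧸ a) := hIJ hx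
        obtain ⟨n, hn⟩ := (mem_nilradical.1 h1)
        rw [← map_pow, Ideal.Quotient.eq_zero_iff_mem] at hn
        exact hP.mem_of_pow_mem n (hle hn)
      · exact fun hle => le_trans (le_inf (fun x hx => by simp [q, Ideal.Quotient.eq_zero_iff_mem.2 hx])
          (fun x hx => by simp [q, Ideal.Quotient.eq_zero_iff_mem.2 hx])) hle) (GrothLib.LC.cdLE_card s)
    have h2 := min_connDim_subdim_le (I.comap q) (J.comap q) d
      (by rw [hsup]; exact Ideal.comap_ne_top q hne)
      (by rw [hsup, ringKrullDim_quotient_comap q hq, hd])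
      (by rw [ringKrullDim_quotient_comap q hq, ← hd]; exact hlt)
      (by rw [ringKrullDim_quotient_comap q hq, ← hd]; exact hlt') s.card hk
    refine h2.trans ?_
    rw [hd] at hc
    refine le_trans (le_of_eq ?_) (add_le_add (add_le_add hc le_rfl) le_rfl)
    push_cast
    rfl

end GrothLib.HLVT
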