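import Groth.Agent.Lib.HLVT.Conn
import Groth.Agent.Lib.ConnDim.Basic
import Mathlib.RingTheory.Spectrum.Prime.Topology

/-!
# Connectedness bound via cohomological dimension
-/

universe u

open CategoryTheory IsLocalRing

namespace GrothLib.HLVT

variable {R : Type u} [CommRing R]

theorem topologicalKrullDim_zeroLocus (I : Ideal R) :
    topologicalKrullDim (PrimeSpectrum.zeroLocus (I : Set R)) = ringKrullDim (R ⧸ I) := by
  rw [← PrimeSpectrum.topologicalKrullDim_eq_ringKrullDim]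
  let e := (PrimeSpectrum.isClosedEmbedding_comap_of_surjective (R ⧸ I)
    (Ideal.Quotient.mk I) Ideal.Quotient.mk_surjective).isEmbedding.toHomeomorph
  have hr : Set.range (PrimeSpectrum.comap (Ideal.Quotient.mk I)) = PrimeSpectrum.zeroLocus (I : Set R) := by
    rw [range_comap_of_surjective _ _ Ideal.Quotient.mk_surjective, Ideal.mk_ker]
  rw [← hr]
  exact (IsHomeomorph.topologicalKrullDim_eq _ e.isHomeomorph).symm

theorem ringKrullDim_quotient_le_of_forall (J : Ideal R) (c : WithBot ℕ∞)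
    (h : ∀ Q : Ideal R, Q.IsPrime → J ≤ Q → ringKrullDim (R ⧸ Q) ≤ c) : ringKrullDim (R ⧸ J) ≤ c := by
  rw [ringKrullDim_quotient]
  refine iSup_le fun l => le_trans ?_ (h _ l.head.1.isPrime l.head.2)
  rw [ringKrullDim_quotient]
  let l' : LTSeries (PrimeSpectrum.zeroLocus (R := R) (l.head.1.asIdeal : Set R)) :=
    LTSeries.mk l.length (fun i => ⟨(l i).1, show l.head.1.asIdeal ≤ (l i).1.asIdeal from l.head_le i⟩)
      fun i j hij => l.strictMono hij
  exact Order.LTSeries.length_le_krullDim l'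

theorem subdim_le (P : Ideal R) (hP : P ∈ minimalPrimes R) :
    LocCoh.subdim (PrimeSpectrum R) ≤ ringKrullDim (R ⧸ P) := by
  rw [← topologicalKrullDim_zeroLocus]
  refine iInf₂_le (PrimeSpectrum.zeroLocus (P : Set R)) ?_
  rw [← PrimeSpectrum.zeroLocus_minimalPrimes]
  exact ⟨P, hP, rfl⟩

/-- Separating the minimal primes in two families bounds the connectedness dimension. -/
theorem connDim_le_of_families [IsNoetherianRing R] (A B : Set (Ideal R)) (hA : A ⊆ minimalPrimes R)
    (hB : B ⊆ minimalPrimes R) (hAn : A.Nonempty) (hBn : B.Nonempty) (hu : minimalPrimes R ⊆ A ∪ B)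
    (c : WithBot ℕ∞) (h : ∀ P ∈ A, ∀ P' ∈ B, ∀ Q : Ideal R, Q.IsPrime → P ≤ Q → P' ≤ Q →
      ringKrullDim (R ⧸ Q) ≤ c) :
    LocCoh.connDim (PrimeSpectrum R) ≤ c := by
  let z : Ideal R → Set (PrimeSpectrum R) := fun P => PrimeSpectrum.zeroLocus (P : Set R)
  have hz : z '' minimalPrimes R = irreducibleComponents (PrimeSpectrum R) :=
    PrimeSpectrum.zeroLocus_minimalPrimes R
  have h1 := GrothLib.ConnDim.connDim_le_pair (T := PrimeSpectrum R) (A := z '' A) (B := z '' B)
    (hz ▸ Set.image_mono hA) (hz ▸ Set.image_mono hB) (hAn.image z) (hBn.image z)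
    (by rw [← hz, ← Set.image_union]; exact congrArg _ ((Set.union_subset hA hB).antisymm hu))
  have hfin := minimalPrimes.finite_of_isNoetherianRing R
  let J : Ideal R := sInf A ⊔ sInf B
  have hfam : ∀ (F : Set (Ideal R)), F ⊆ minimalPrimes R → ∀ x : PrimeSpectrum R,
      sInf F ≤ x.asIdeal → ∃ P ∈ F, P ≤ x.asIdeal := fun F hF x hx => by
    have h2 : (hfin.subset hF).toFinset.inf id ≤ x.asIdeal :=
      le_trans (le_sInf fun P hP => Finset.inf_le ((hfin.subset hF).mem_toFinset.2 hP)) hx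
    obtain ⟨P, hP, hle⟩ := x.isPrime.inf_le'.1 h2
    exact ⟨P, (hfin.subset hF).mem_toFinset.1 hP, hle⟩
  refine (h1.trans (GrothLib.ConnDim.dim_mono (t := PrimeSpectrum.zeroLocus (J : Set R)) ?_)).trans ?_
  · rintro x ⟨⟨_, ⟨P, hP, rfl⟩, hx⟩, ⟨_, ⟨P', hP', rfl⟩, hx'⟩⟩
    exact sup_le ((sInf_le hP).trans hx) ((sInf_le hP').trans hx')
  · rw [topologicalKrullDim_zeroLocus]
    refine ringKrullDim_quotient_le_of_forall J c fun Q hQ hle => ?_
    obtain ⟨P, hP, hP1⟩ := hfam A hA ⟨Q, hQ⟩ (le_sup_left.trans hle)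
    obtain ⟨P', hP', hP1'⟩ := hfam B hB ⟨Q, hQ⟩ (le_sup_right.trans hle)
    exact h P hP P' hP' Q hQ hP1 hP1'

theorem cdLE_map [IsNoetherianRing R] {S : Type u} [CommRing S] [IsNoetherianRing S] [Algebra R S]
    {I : Ideal R} {k : ℕ} (h : LocCoh.CdLE R I k) : LocCoh.CdLE S (I.map (algebraMap R S)) k :=
  fun M _ _ i hi => by
    let _ : Module R M := Module.compHom M (algebraMap R S)
    have : IsScalarTower R S M := ⟨fun r s m => by rw [Algebra.smul_def, mul_smul]; rfl⟩
    exact (GrothLib.LC.subsingleton_map_iff I i M).2 (h M i hi)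

variable [IsLocalRing R] [IsNoetherianRing R]

/-- `dim R ≤ cd I + dim R/I`. -/
theorem ringKrullDim_le_cd_add : ∀ (δ : ℕ) (I : Ideal R) (k : ℕ), I ≠ ⊤ →
    ringKrullDim (R ⧸ I) ≤ δ → LocCoh.CdLE R I k → ringKrullDim R ≤ ((k + δ : ℕ) : WithBot ℕ∞) := by
  intro δ
  induction δ with
  | zero =>
    intro I k hI hd hk
    obtain ⟨n, hn⟩ : ∃ n : ℕ, ringKrullDim R = n := by
      obtain ⟨n, hn⟩ := exists_nat_ringKrullDim_quotient (R := R) (I := ⊥) bot_ne_top
      exact ⟨n, (ringKrullDim_eq_of_ringEquiv (RingEquiv.quotientBot R)).symm.trans hn⟩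
    rw [hn]
    by_contra hlt
    have hlt : k < n := by
      by_contra hle
      exact hlt (by exact_mod_cast (show n ≤ k + 0 by omega))
    have : Ring.KrullDimLE 0 (R ⧸ I) := Ring.krullDimLE_iff.2 hd
    have hcd : LocCoh.CdLE R (maximalIdeal R) k := cdLE_of_le (le_maximalIdeal hI) (fun P hP hle => by
      have hp0 : (P.map (Ideal.Quotient.mk I)).IsPrime :=
        Ideal.map_isPrime_of_surjective Ideal.Quotient.mk_surjective (by rwa [Ideal.mk_ker])
      have := Ideal.IsPrime.isMaximal' hp0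
      have h2 := Ideal.comap_isMaximal_of_surjective (Ideal.Quotient.mk I)
        Ideal.Quotient.mk_surjective (K := P.map (Ideal.Quotient.mk I))
      rw [Ideal.comap_map_of_surjective _ Ideal.Quotient.mk_surjective, ← RingHom.ker_eq_comap_bot,
        Ideal.mk_ker, sup_eq_left.2 hle] at h2
      exact (IsLocalRing.eq_maximalIdeal h2).ge) hk
    exact not_subsingleton_iff_nontrivial.2 (GrothLib.LC.not_finite_and_nontrivial_H_maximal n R
      ((Module.supportDim_self_eq_ringKrullDim (R := R)).trans hn)).1 (hcd R n hlt)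
  | succ δ ih =>
    intro I k hI hd hk
    obtain ⟨e, he⟩ := exists_nat_ringKrullDim_quotient hI
    rw [he] at hd
    have hd : e ≤ δ + 1 := by exact_mod_cast hd
    rcases Nat.lt_or_ge e (δ + 1) with hlt | hge
    · exact (ih I k hI (by rw [he]; exact_mod_cast (Nat.lt_succ_iff.1 hlt)) hk).trans
        (by exact_mod_cast Nat.le_succ (k + δ))
    have hee : e = δ + 1 := by omega
    obtain ⟨x, hx, hx'⟩ := GrothLib.LC.exists_mem_forall_notMem (I := maximalIdeal R)
      (I.finite_minimalPrimes_of_isNoetherianRing R) (fun P hP => hP.1.1) fun P hP hle => by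
        obtain rfl := le_antisymm (le_maximalIdeal hP.1.1.ne_top) hle
        have h0 : ringKrullDim (R ⧸ I) ≤ 0 := ringKrullDim_quotient_le_of_forall I 0 fun Q hQ hIQ => by
          have h1 : Q = maximalIdeal R :=
            le_antisymm (le_maximalIdeal hQ.ne_top) (hP.2 ⟨hQ, hIQ⟩ (le_maximalIdeal hQ.ne_top))
          rw [h1]
          exact (ringKrullDim_eq_zero_of_isField
            ((Ideal.Quotient.maximal_ideal_iff_isField_quotient _).1 inferInstance)).le
        rw [he, hee] at h0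
        exact absurd (by exact_mod_cast h0 : δ + 1 ≤ 0) (Nat.not_succ_le_zero δ)
    have hne : I ⊔ Ideal.span {x} ≠ ⊤ := ne_top_of_le_ne_top (maximalIdeal.isMaximal R).ne_top
      (sup_le (le_maximalIdeal hI) ((Ideal.span_singleton_le_iff_mem _).2 hx))
    obtain ⟨f, hf⟩ := exists_nat_ringKrullDim_quotient hne
    have h1 := ringKrullDim_sup_span_add_one_le hx'
    rw [he, hf] at h1
    have h1' : f + 1 ≤ e := by exact_mod_cast h1
    refine (ih _ (k + 1) hne (by rw [hf]; exact_mod_cast (show f ≤ δ by omega))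
      (GrothLib.LC.cdLE_sup _ _ hk (GrothLib.LC.cdLE_span_singleton x))).trans ?_
    exact_mod_cast (show k + 1 + δ ≤ k + (δ + 1) by omega)

omit [IsLocalRing R] [IsNoetherianRing R] in
theorem ringKrullDim_quotient_map_eq (P I : Ideal R) :
    ringKrullDim ((R ⧸ P) ⧸ I.map (algebraMap R (R ⧸ P))) = ringKrullDim (R ⧸ (P ⊔ I)) :=
  ringKrullDim_eq_of_ringEquiv (DoubleQuot.quotQuotEquivQuotSup P I)

variable [IsAdicComplete (maximalIdeal R) R]

/-- The connectedness bound. -/
theorem min_connDim_subdim_le (a b : Ideal R) (δ : ℕ) (hne : a ⊔ b ≠ ⊤)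
    (hδ : ringKrullDim (R ⧸ (a ⊔ b)) ≤ δ) (ha : (δ : WithBot ℕ∞) < ringKrullDim (R ⧸ a))
    (hb : (δ : WithBot ℕ∞) < ringKrullDim (R ⧸ b)) (k : ℕ) (hk : LocCoh.CdLE R (a ⊓ b) k) :
    min (LocCoh.connDim (PrimeSpectrum R) + 1) (LocCoh.subdim (PrimeSpectrum R)) ≤
      ((δ + k + 1 : ℕ) : WithBot ℕ∞) := by
  have hcdP : ∀ P : Ideal R, LocCoh.CdLE (R ⧸ P)
      (a.map (algebraMap R (R ⧸ P)) ⊓ b.map (algebraMap R (R ⧸ P))) k := fun P =>
    cdLE_of_le (Ideal.map_inf_le _) (fun Q hQ hle => by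
      rcases (Ideal.IsPrime.comap (algebraMap R (R ⧸ P))).inf_le.1 (Ideal.map_le_iff_le_comap.1 hle) with h | h
      · exact inf_le_left.trans (Ideal.map_le_iff_le_comap.2 h)
      · exact inf_le_right.trans (Ideal.map_le_iff_le_comap.2 h)) (cdLE_map hk)
  by_cases hcase : ∃ P ∈ minimalPrimes R, (δ : WithBot ℕ∞) < ringKrullDim (R ⧸ (P ⊔ a)) ∧
      (δ : WithBot ℕ∞) < ringKrullDim (R ⧸ (P ⊔ b))
  · obtain ⟨P, hP, hPa, hPb⟩ := hcase
    refine (min_le_right _ _).trans ((subdim_le P hP).trans ?_)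
    have := hP.1.1
    have : IsLocalRing (R ⧸ P) := IsLocalRing.of_surjective' (Ideal.Quotient.mk P) Ideal.Quotient.mk_surjective
    have : IsAdicComplete (maximalIdeal (R ⧸ P)) (R ⧸ P) := GrothLib.AdicExtra.isAdicComplete_localRing (R := R)
    have hne' : P ⊔ (a ⊔ b) ≠ ⊤ := ne_top_of_le_ne_top (maximalIdeal.isMaximal R).ne_top
      (sup_le (le_maximalIdeal hP.1.1.ne_top) (le_maximalIdeal hne))
    obtain ⟨d, hd⟩ := exists_nat_ringKrullDim_quotient hne'
    obtain ⟨n, hn⟩ := exists_nat_ringKrullDim_quotient hP.1.1.ne_top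
    have hdδ : d ≤ δ := by
      have h1 := (ringKrullDim_le_of_surjective _ (Ideal.Quotient.factor_surjective
        (le_sup_right : a ⊔ b ≤ P ⊔ (a ⊔ b)))).trans hδ
      rw [hd] at h1
      exact_mod_cast h1
    have hd' : ringKrullDim ((R ⧸ P) ⧸ (a.map (algebraMap R (R ⧸ P)) ⊔ b.map (algebraMap R (R ⧸ P)))) = d := by
      rw [← Ideal.map_sup, ringKrullDim_quotient_map_eq, hd]
    have h2 := le_add_aux hn d _ _ hd'
      (lt_of_le_of_lt (b := (δ : WithBot ℕ∞)) (by exact_mod_cast hdδ) (by rwa [ringKrullDim_quotient_map_eq]))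
      (lt_of_le_of_lt (b := (δ : WithBot ℕ∞)) (by exact_mod_cast hdδ) (by rwa [ringKrullDim_quotient_map_eq])) k (hcdP P)
    rw [hn]
    exact_mod_cast (show n ≤ δ + k + 1 by omega)
  · simp only [not_exists, not_and] at hcase
    let A : Set (Ideal R) := {P | P ∈ minimalPrimes R ∧ ringKrullDim (R ⧸ (P ⊔ a)) ≤ δ}
    let B : Set (Ideal R) := {P | P ∈ minimalPrimes R ∧ (δ : WithBot ℕ∞) < ringKrullDim (R ⧸ (P ⊔ a))}
    have hB : ∀ P ∈ B, ringKrullDim (R ⧸ (P ⊔ b)) ≤ δ := fun P hP => not_lt.1 (hcase P hP.1 hP.2)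
    have hex : ∀ c : Ideal R, (δ : WithBot ℕ∞) < ringKrullDim (R ⧸ c) →
        ∃ P ∈ minimalPrimes R, (δ : WithBot ℕ∞) < ringKrullDim (R ⧸ (P ⊔ c)) := fun c hc => by
      by_contra hc'
      simp only [not_exists, not_and, not_lt] at hc'
      refine hc.not_ge (ringKrullDim_quotient_le_of_forall c δ fun Q hQ hcQ => ?_)
      obtain ⟨P, hP, hle⟩ := Ideal.exists_minimalPrimes_le (bot_le : (⊥ : Ideal R) ≤ Q)
      exact (ringKrullDim_le_of_surjective _ (Ideal.Quotient.factor_surjective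
        (sup_le hle hcQ : P ⊔ c ≤ Q))).trans (hc' P hP)
    have hAn : A.Nonempty := by
      obtain ⟨P, hP, h⟩ := hex b hb
      exact ⟨P, hP, not_lt.1 fun h' => hcase P hP h' h⟩
    have hBn : B.Nonempty := by
      obtain ⟨P, hP, h⟩ := hex a ha
      exact ⟨P, hP, h⟩
    have hc : LocCoh.connDim (PrimeSpectrum R) ≤ ((δ + k : ℕ) : WithBot ℕ∞) := by
      refine connDim_le_of_families A B (fun P hP => hP.1) (fun P hP => hP.1) hAn hBn
        (fun P hP => (le_or_gt (ringKrullDim (R ⧸ (P ⊔ a))) δ).imp (And.intro hP) (And.intro hP))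
        _ fun P hP P' hP' Q hQ hle hle' => ?_
      have : IsLocalRing (R ⧸ Q) := IsLocalRing.of_surjective' (Ideal.Quotient.mk Q) Ideal.Quotient.mk_surjective
      rw [Nat.add_comm δ k]
      refine ringKrullDim_le_cd_add δ _ k ?_ (ringKrullDim_quotient_le_of_forall _ _ fun T hT hT' => ?_)
        (hcdP Q)
      · refine ne_top_of_le_ne_top (maximalIdeal.isMaximal (R ⧸ Q)).ne_top (inf_le_left.trans ?_)
        refine (Ideal.map_mono (le_maximalIdeal (ne_top_of_le_ne_top hne le_sup_left))).trans ?_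
        exact (map_maximalIdeal_of_surjective (algebraMap R (R ⧸ Q)) Ideal.Quotient.mk_surjective).le
      · rcases hT.inf_le.1 hT' with h | h
        · refine (ringKrullDim_le_of_surjective _ (Ideal.Quotient.factor_surjective h)).trans ?_
          rw [ringKrullDim_quotient_map_eq]
          exact (ringKrullDim_le_of_surjective _ (Ideal.Quotient.factor_surjective
            (sup_le_sup_right hle a))).trans hP.2
        · refine (ringKrullDim_le_of_surjective _ (Ideal.Quotient.factor_surjective h)).trans ?_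
          rw [ringKrullDim_quotient_map_eq]
          exact (ringKrullDim_le_of_surjective _ (Ideal.Quotient.factor_surjective
            (sup_le_sup_right hle' b))).trans (hB P' hP')
    refine (min_le_left _ _).trans ((add_le_add hc le_rfl).trans (le_of_eq ?_))
    push_cast
    rfl

end GrothLib.HLVT
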