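import Groth.Agent.Lib.HLVT.Main
import Groth.Agent.Lib.LC.MayerVietoris
import Groth.Agent.Lib.LC.Cd
import Mathlib.RingTheory.KrullDimension.Regular

/-!
# Mayer-Vietoris and Hartshorne-Lichtenbaum: dimension of `a + b` and cohomological dimension of `a ∩ b`
-/

universe u

open CategoryTheory IsLocalRing
open scoped Pointwise

namespace GrothLib.HLVT

variable {R : Type u} [CommRing R] [IsLocalRing R] [IsNoetherianRing R]

theorem exists_nat_ringKrullDim_quotient {I : Ideal R} (hI : I ≠ ⊤) :
    ∃ d : ℕ, ringKrullDim (R ⧸ I) = d := by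
  have : Nontrivial (R ⧸ I) := Ideal.Quotient.nontrivial_iff.2 hI
  have : IsLocalRing (R ⧸ I) := IsLocalRing.of_surjective' (Ideal.Quotient.mk I) Ideal.Quotient.mk_surjective
  have h := (maximalIdeal (R ⧸ I)).height_ne_top (maximalIdeal.isMaximal _).ne_top
  refine ⟨(maximalIdeal (R ⧸ I)).height.toNat, ?_⟩
  rw [← IsLocalRing.maximalIdeal_height_eq_ringKrullDim]
  exact congrArg _ (ENat.natCast_toNat h).symm

omit [IsLocalRing R] [IsNoetherianRing R] in
theorem span_singleton_eq_smul_top (x : R) : Ideal.span {x} = x • (⊤ : Ideal R) := by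
  simp [← Submodule.ideal_span_singleton_smul]

/-- The dimension drops by at most one. -/
theorem ringKrullDim_quotient_le_sup_span_add_one {I : Ideal R} (hI : I ≠ ⊤) {x : R}
    (hx : x ∈ maximalIdeal R) :
    ringKrullDim (R ⧸ I) ≤ ringKrullDim (R ⧸ (I ⊔ Ideal.span {x})) + 1 := by
  have : Nontrivial (R ⧸ I) := Ideal.Quotient.nontrivial_iff.2 hI
  have : IsLocalRing (R ⧸ I) := IsLocalRing.of_surjective' (Ideal.Quotient.mk I) Ideal.Quotient.mk_surjective
  have h := ringKrullDim_le_ringKrullDim_quotSMulTop_succ (x := Ideal.Quotient.mk I x)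
    ((map_maximalIdeal_of_surjective (Ideal.Quotient.mk I) Ideal.Quotient.mk_surjective) ▸
      Ideal.mem_map_of_mem _ hx)
  rw [← span_singleton_eq_smul_top, ← Set.image_singleton, ← Ideal.map_span] at h
  exact h.trans (le_of_eq (congrArg (· + 1)
    (ringKrullDim_eq_of_ringEquiv (DoubleQuot.quotQuotEquivQuotSup I (Ideal.span {x})))))

omit [IsLocalRing R] [IsNoetherianRing R] in
/-- The dimension drops for an element outside the minimal primes. -/
theorem ringKrullDim_sup_span_add_one_le {I : Ideal R} {x : R} (hx : ∀ P ∈ I.minimalPrimes, x ∉ P) :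
    ringKrullDim (R ⧸ (I ⊔ Ideal.span {x})) + 1 ≤ ringKrullDim (R ⧸ I) := by
  have h := Module.supportDim_quotSMulTop_succ_le_of_notMem_minimalPrimes (M := R ⧸ I) (R := R ⧸ I)
    (x := Ideal.Quotient.mk I x) fun P hP => by
      have hP' : P ∈ minimalPrimes (R ⧸ I) := by
        rwa [Module.annihilator_eq_bot.2 inferInstance] at hP
      refine fun hxP => hx (P.comap (Ideal.Quotient.mk I)) ?_ hxP
      rw [Ideal.minimalPrimes_eq_comap]
      exact ⟨P, hP', rfl⟩
  rw [Module.supportDim_self_eq_ringKrullDim, Module.supportDim_quotient_eq_ringKrullDim,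
    ← span_singleton_eq_smul_top, ← Set.image_singleton, ← Ideal.map_span,
    ringKrullDim_eq_of_ringEquiv (DoubleQuot.quotQuotEquivQuotSup I (Ideal.span {x}))] at h
  exact h

omit [IsLocalRing R] in
/-- Transfer of `cd` along an inclusion of ideals with the same zero set. -/
theorem cdLE_of_le {I J : Ideal R} (h : I ≤ J)
    (hV : ∀ P : Ideal R, P.IsPrime → I ≤ P → J ≤ P) {k : ℕ} (hI : LocCoh.CdLE R I k) :
    LocCoh.CdLE R J k := fun M _ _ i hi =>
  @Function.Injective.subsingleton _ _ _ (GrothLib.LC.hmap_injective_of_punctual (ModuleCat.of R M) i I J h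
    fun p hp hp' => absurd (hV _ p.isPrime hp) hp') (hI M i hi)

variable [IsDomain R] [IsAdicComplete (maximalIdeal R) R]

theorem le_add_aux {n : ℕ} (hn : ringKrullDim R = n) : ∀ (d : ℕ) (a b : Ideal R),
    ringKrullDim (R ⧸ (a ⊔ b)) = d → (d : WithBot ℕ∞) < ringKrullDim (R ⧸ a) →
    (d : WithBot ℕ∞) < ringKrullDim (R ⧸ b) → ∀ k : ℕ, LocCoh.CdLE R (a ⊓ b) k → n ≤ k + d + 1 := by
  intro d
  induction d with
  | zero =>
    intro a b hd ha hb k hk
    by_contra hlt
    obtain ⟨j, rfl⟩ : ∃ j, n = j + 1 := ⟨n - 1, by omega⟩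
    have hone : ∀ I : Ideal R, (0 : WithBot ℕ∞) < ringKrullDim (R ⧸ I) → 1 ≤ ringKrullDim (R ⧸ I) :=
      fun I hI => by
        obtain ⟨e, he⟩ := exists_nat_ringKrullDim_quotient (I := I) fun h => by
          have : Subsingleton (R ⧸ I) := Ideal.Quotient.subsingleton_iff.2 h
          rw [ringKrullDim_eq_bot_of_subsingleton] at hI
          exact not_lt_bot hI
        rw [he] at hI ⊢
        exact_mod_cast (show 0 < e by exact_mod_cast hI)
    have h1 := subsingleton_top_of_domain R hn a (hone a (by simpa using ha))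
    have h2 := subsingleton_top_of_domain R hn b (hone b (by simpa using hb))
    have h0 := hk R j (by omega)
    have hsup : Subsingleton (LocCoh.H (a ⊔ b) (j + 1) R) := by
      refine subsingleton_of_forall_eq 0 fun y => ?_
      obtain ⟨z, rfl⟩ := (GrothLib.LC.mv_exact₁ a b (ModuleCat.of R R) j y).1
        (Prod.ext (@Subsingleton.elim _ h1 _ _) (@Subsingleton.elim _ h2 _ _))
      rw [@Subsingleton.elim _ h0 z 0, map_zero]
    have hne : a ⊔ b ≠ ⊤ := fun h => by
      have : Subsingleton (R ⧸ (a ⊔ b)) := Ideal.Quotient.subsingleton_iff.2 h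
      rw [ringKrullDim_eq_bot_of_subsingleton] at hd
      exact WithBot.bot_ne_coe hd
    have hm : Subsingleton (LocCoh.H (maximalIdeal R) (j + 1) R) :=
      @Function.Injective.subsingleton _ _ _ (GrothLib.LC.hmap_injective_of_punctual (ModuleCat.of R R)
        (j + 1) _ _ (le_maximalIdeal hne) fun p hp hp' => absurd (by
          have : Ring.KrullDimLE 0 (R ⧸ (a ⊔ b)) := Ring.krullDimLE_iff.2 hd.le
          have := p.isPrime
          have hp0 : (p.asIdeal.map (Ideal.Quotient.mk (a ⊔ b))).IsPrime :=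
            Ideal.map_isPrime_of_surjective Ideal.Quotient.mk_surjective (by rwa [Ideal.mk_ker])
          have hmax := Ideal.IsPrime.isMaximal' hp0
          have := Ideal.comap_isMaximal_of_surjective (Ideal.Quotient.mk (a ⊔ b))
            Ideal.Quotient.mk_surjective (K := p.asIdeal.map (Ideal.Quotient.mk (a ⊔ b)))
          rw [Ideal.comap_map_of_surjective _ Ideal.Quotient.mk_surjective, ← RingHom.ker_eq_comap_bot,
            Ideal.mk_ker, sup_eq_left.2 hp] at this
          exact (IsLocalRing.eq_maximalIdeal this).ge) hp') hsup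
    exact not_subsingleton_iff_nontrivial.2 (GrothLib.LC.not_finite_and_nontrivial_H_maximal (j + 1) R
      ((Module.supportDim_self_eq_ringKrullDim (R := R)).trans hn)).1 hm
  | succ d ih =>
    intro a b hd ha hb k hk
    have hne : a ⊔ b ≠ ⊤ := fun h => by
      have : Subsingleton (R ⧸ (a ⊔ b)) := Ideal.Quotient.subsingleton_iff.2 h
      rw [ringKrullDim_eq_bot_of_subsingleton] at hd
      exact WithBot.bot_ne_coe hd
    obtain ⟨x, hx, hx'⟩ := GrothLib.LC.exists_mem_forall_notMem (I := maximalIdeal R)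
      ((a ⊔ b).finite_minimalPrimes_of_isNoetherianRing R) (fun P hP => hP.1.1) fun P hP hle => by
        obtain rfl := le_antisymm (le_maximalIdeal hP.1.1.ne_top) hle
        have : Ring.KrullDimLE 0 (R ⧸ (a ⊔ b)) := Ring.KrullDimLE.mk₀ fun Q hQ => by
          have h1 : Q.comap (Ideal.Quotient.mk (a ⊔ b)) = maximalIdeal R :=
            le_antisymm (le_maximalIdeal (Ideal.IsPrime.comap _).ne_top) (hP.2 ⟨Ideal.IsPrime.comap _,
              fun z hz => by simp [Ideal.Quotient.eq_zero_iff_mem.2 hz]⟩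
              (le_maximalIdeal (Ideal.IsPrime.comap _).ne_top))
          rw [← Ideal.map_comap_of_surjective _ Ideal.Quotient.mk_surjective Q, h1]
          exact Ideal.IsMaximal.map_of_surjective_of_ker_le Ideal.Quotient.mk_surjective
            (by rw [Ideal.mk_ker]; exact le_maximalIdeal hne)
        have h0 := Ring.krullDimLE_iff.1 this
        rw [hd] at h0
        exact absurd (by exact_mod_cast h0 : d + 1 ≤ 0) (Nat.not_succ_le_zero d)
    have heq : (a ⊔ Ideal.span {x}) ⊔ (b ⊔ Ideal.span {x}) = (a ⊔ b) ⊔ Ideal.span {x} := by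
      rw [← sup_sup_distrib_right]
    obtain ⟨e, he⟩ := exists_nat_ringKrullDim_quotient (I := (a ⊔ b) ⊔ Ideal.span {x}) (ne_top_of_le_ne_top
      (maximalIdeal.isMaximal R).ne_top (sup_le (le_maximalIdeal hne) ((Ideal.span_singleton_le_iff_mem _).2 hx)))
    have hed : e = d := by
      have h1 := ringKrullDim_sup_span_add_one_le hx'
      have h2 := ringKrullDim_quotient_le_sup_span_add_one hne hx
      rw [he, hd] at h1 h2
      have h1' : e + 1 ≤ d + 1 := by exact_mod_cast h1
      have h2' : d + 1 ≤ e + 1 := by exact_mod_cast h2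
      omega
    subst hed
    have hdrop : ∀ I : Ideal R, I ≤ a ⊔ b → ((e + 1 : ℕ) : WithBot ℕ∞) < ringKrullDim (R ⧸ I) →
        (e : WithBot ℕ∞) < ringKrullDim (R ⧸ (I ⊔ Ideal.span {x})) := fun I hI hlt => by
      obtain ⟨f, hf⟩ := exists_nat_ringKrullDim_quotient (ne_top_of_le_ne_top hne hI)
      obtain ⟨g, hg⟩ := exists_nat_ringKrullDim_quotient (I := I ⊔ Ideal.span {x})
        (ne_top_of_le_ne_top (maximalIdeal.isMaximal R).ne_top
          (sup_le (le_maximalIdeal (ne_top_of_le_ne_top hne hI)) ((Ideal.span_singleton_le_iff_mem _).2 hx)))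
      have h2 := ringKrullDim_quotient_le_sup_span_add_one (ne_top_of_le_ne_top hne hI) hx
      rw [hf, hg] at h2
      rw [hf] at hlt
      rw [hg]
      have h2' : f ≤ g + 1 := by exact_mod_cast h2
      have hlt' : e + 1 < f := by exact_mod_cast hlt
      exact_mod_cast (show e < g by omega)
    have hk' : LocCoh.CdLE R ((a ⊔ Ideal.span {x}) ⊓ (b ⊔ Ideal.span {x})) (k + 1) :=
      cdLE_of_le (I := (a ⊓ b) ⊔ Ideal.span {x})
        (le_inf (sup_le_sup_right inf_le_left _) (sup_le_sup_right inf_le_right _))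
        (fun P hP hle => by
          rcases hP.inf_le.1 (le_sup_left.trans hle) with h | h
          · exact inf_le_left.trans (sup_le h (le_sup_right.trans hle))
          · exact inf_le_right.trans (sup_le h (le_sup_right.trans hle)))
        (GrothLib.LC.cdLE_sup _ _ hk (GrothLib.LC.cdLE_span_singleton x))
    have := ih (a ⊔ Ideal.span {x}) (b ⊔ Ideal.span {x}) (heq ▸ he) (hdrop a le_sup_left ha)
      (hdrop b le_sup_right hb) (k + 1) hk'
    omega

end GrothLib.HLVT
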