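import Groth.Agent.Lib.HLVT.Sdim
import Groth.Agent.Lib.CanonMod.CM
import Groth.Agent.Lib.AdicExtra.Completion
import Mathlib.RingTheory.Ideal.GoingDown

/-!
# Dimensions along completion
-/

universe u

open IsLocalRing

namespace GrothLib.HLVT

variable {R : Type u} [CommRing R] [IsLocalRing R] [IsNoetherianRing R]

local notation "A" => AdicCompletion (maximalIdeal R) R

theorem map_ne_top_completion {I : Ideal R} (hI : I ≠ ⊤) : I.map (algebraMap R A) ≠ ⊤ :=
  ne_top_of_le_ne_top (maximalIdeal.isMaximal A).ne_top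
    ((Ideal.map_mono (le_maximalIdeal hI)).trans AdicCompletion.maximalIdeal_eq_map.ge)

theorem ringKrullDim_map_completion_le : ∀ (d : ℕ) (I : Ideal R), I ≠ ⊤ → ringKrullDim (R ⧸ I) ≤ d →
    ringKrullDim (A ⧸ I.map (algebraMap R A)) ≤ d := by
  intro d
  induction d with
  | zero =>
    intro I hI hd
    have : Ring.KrullDimLE 0 (R ⧸ I) := Ring.krullDimLE_iff.2 hd
    refine ringKrullDim_quotient_le_of_forall _ _ fun Q hQ hle => ?_
    have hQm : Q = maximalIdeal A := by
      refine le_antisymm (le_maximalIdeal hQ.ne_top) (AdicCompletion.maximalIdeal_eq_map.le.trans ?_)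
      rw [Ideal.map_le_iff_le_comap]
      have hp0 : ((Q.comap (algebraMap R A)).map (Ideal.Quotient.mk I)).IsPrime :=
        Ideal.map_isPrime_of_surjective Ideal.Quotient.mk_surjective
          (by rw [Ideal.mk_ker]; exact Ideal.map_le_iff_le_comap.1 hle)
      have := Ideal.IsPrime.isMaximal' hp0
      have h2 := Ideal.comap_isMaximal_of_surjective (Ideal.Quotient.mk I)
        Ideal.Quotient.mk_surjective (K := (Q.comap (algebraMap R A)).map (Ideal.Quotient.mk I))
      rw [Ideal.comap_map_of_surjective _ Ideal.Quotient.mk_surjective, ← RingHom.ker_eq_comap_bot,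
        Ideal.mk_ker, sup_eq_left.2 (Ideal.map_le_iff_le_comap.1 hle)] at h2
      exact (IsLocalRing.eq_maximalIdeal h2).ge
    subst hQm
    exact (ringKrullDim_eq_zero_of_isField
      ((Ideal.Quotient.maximal_ideal_iff_isField_quotient _).1 inferInstance)).le
  | succ d ih =>
    intro I hI hd
    obtain ⟨e, he⟩ := exists_nat_ringKrullDim_quotient hI
    rw [he] at hd
    have hd : e ≤ d + 1 := by exact_mod_cast hd
    rcases Nat.lt_or_ge e (d + 1) with hlt | hge
    · exact (ih I hI (by rw [he]; exact_mod_cast (Nat.lt_succ_iff.1 hlt))).trans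
        (by exact_mod_cast Nat.le_succ d)
    obtain ⟨x, hx, hx'⟩ := GrothLib.LC.exists_mem_forall_notMem (I := maximalIdeal R)
      (I.finite_minimalPrimes_of_isNoetherianRing R) (fun P hP => hP.1.1) fun P hP hle => by
        obtain rfl := le_antisymm (le_maximalIdeal hP.1.1.ne_top) hle
        have h0 : ringKrullDim (R ⧸ I) ≤ 0 := ringKrullDim_quotient_le_of_forall I 0 fun Q hQ hIQ => by
          have h1 : Q = maximalIdeal R :=
            le_antisymm (le_maximalIdeal hQ.ne_top) (hP.2 ⟨hQ, hIQ⟩ (le_maximalIdeal hQ.ne_top))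
          rw [h1]
          exact (ringKrullDim_eq_zero_of_isField
            ((Ideal.Quotient.maximal_ideal_iff_isField_quotient _).1 inferInstance)).le
        rw [he] at h0
        exact absurd (le_trans hge (by exact_mod_cast h0 : e ≤ 0)) (Nat.not_succ_le_zero d)
    have hne : I ⊔ Ideal.span {x} ≠ ⊤ := ne_top_of_le_ne_top (maximalIdeal.isMaximal R).ne_top
      (sup_le (le_maximalIdeal hI) ((Ideal.span_singleton_le_iff_mem _).2 hx))
    obtain ⟨f, hf⟩ := exists_nat_ringKrullDim_quotient hne
    have h1 := ringKrullDim_sup_span_add_one_le hx'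
    rw [he, hf] at h1
    have h1' : f + 1 ≤ e := by exact_mod_cast h1
    have h2 := ih _ hne (by rw [hf]; exact_mod_cast (show f ≤ d by omega))
    rw [Ideal.map_sup, Ideal.map_span, Set.image_singleton] at h2
    have hxA : algebraMap R A x ∈ maximalIdeal A :=
      AdicCompletion.maximalIdeal_eq_map.ge (Ideal.mem_map_of_mem _ hx)
    refine (ringKrullDim_quotient_le_sup_span_add_one (map_ne_top_completion hI) hxA).trans ?_
    exact_mod_cast add_le_add h2 le_rfl

/-- `dim Â/IÂ = dim R/I`. -/
theorem ringKrullDim_map_completion (I : Ideal R) :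
    ringKrullDim (A ⧸ I.map (algebraMap R A)) = ringKrullDim (R ⧸ I) := by
  refine le_antisymm ?_ ?_
  · by_cases hI : I = ⊤
    · subst hI
      have : Subsingleton (A ⧸ (⊤ : Ideal R).map (algebraMap R A)) :=
        Ideal.Quotient.subsingleton_iff.2 (Ideal.map_top _)
      rw [ringKrullDim_eq_bot_of_subsingleton]
      exact bot_le
    · obtain ⟨d, hd⟩ := exists_nat_ringKrullDim_quotient hI
      rw [hd]
      exact ringKrullDim_map_completion_le d I hI hd.le
  · rw [ringKrullDim_quotient, ringKrullDim_quotient]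
    refine iSup_le fun l => ?_
    let l₀ : LTSeries (PrimeSpectrum R) := l.map Subtype.val fun _ _ h => h
    have : Module.FaithfullyFlat R A := Module.FaithfullyFlat.of_flat_of_isLocalHom
    obtain ⟨P, hP⟩ := PrimeSpectrum.comap_surjective_of_faithfullyFlat (B := A) l₀.last
    have : P.asIdeal.LiesOver l₀.last.asIdeal := ⟨(congrArg PrimeSpectrum.asIdeal hP).symm⟩
    obtain ⟨L, hlen, -, hspec⟩ := Ideal.exists_ltSeries_of_hasGoingDown l₀ P.asIdeal
    have hmem : ∀ i, L i ∈ PrimeSpectrum.zeroLocus (R := A) ((I.map (algebraMap R A) : Ideal A) : Set A) := fun i => by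
      have h1 : PrimeSpectrum.comap (algebraMap R A) (L i) ∈ l₀.toList :=
        hspec ▸ List.mem_map_of_mem (List.mem_ofFn.2 ⟨i, rfl⟩)
      obtain ⟨j, hj⟩ := List.mem_ofFn.1 h1
      show I.map (algebraMap R A) ≤ (L i).asIdeal
      rw [Ideal.map_le_iff_le_comap]
      exact le_of_le_of_eq (show I ≤ (l₀ j).asIdeal from (l j).2) (congrArg PrimeSpectrum.asIdeal hj)
    let L' : LTSeries (PrimeSpectrum.zeroLocus (R := A) ((I.map (algebraMap R A) : Ideal A) : Set A)) :=
      LTSeries.mk L.length (fun i => ⟨L i, hmem i⟩) fun i j hij => L.strictMono hij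
    refine le_of_eq_of_le ?_ (Order.LTSeries.length_le_krullDim L')
    exact congrArg (fun k : ℕ => (k : WithBot ℕ∞)) hlen.symm

/-- A prime of the completion over `p` with the same height and the same coheight. -/
theorem exists_prime_over (p : Ideal R) [p.IsPrime] :
    ∃ P : Ideal A, P.IsPrime ∧ P.comap (algebraMap R A) = p ∧ P.height = p.height ∧
      ringKrullDim (A ⧸ P) = ringKrullDim (R ⧸ p) := by
  let J : Ideal A := p.map (algebraMap R A)
  obtain ⟨d, hd⟩ := exists_nat_ringKrullDim_quotient (Ideal.IsPrime.ne_top (I := p) ‹_›)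
  have hJ : ringKrullDim (A ⧸ J) = d := (ringKrullDim_map_completion p).trans hd
  obtain ⟨P, hPmin, hPd⟩ : ∃ P ∈ J.minimalPrimes, ringKrullDim (A ⧸ P) = d := by
    obtain ⟨Q, hQ, hle, hQd⟩ := GrothLib.CanonMod.exists_prime_dim_quotient J hJ.ge
    obtain ⟨P, hP, hPQ⟩ := Ideal.exists_minimalPrimes_le (J := Q) hle
    refine ⟨P, hP, le_antisymm (hJ ▸ ringKrullDim_le_of_surjective _ (Ideal.Quotient.factor_surjective hP.1.2)) ?_⟩
    exact hQd.trans (ringKrullDim_le_of_surjective _ (Ideal.Quotient.factor_surjective hPQ))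
  have hP := hPmin.1.1
  have hcomap : P.comap (algebraMap R A) = p := by
    refine le_antisymm ?_ (Ideal.map_le_iff_le_comap.1 hPmin.1.2)
    by_contra hne
    have hlt : p < P.comap (algebraMap R A) :=
      lt_of_le_not_ge (Ideal.map_le_iff_le_comap.1 hPmin.1.2) hne
    have : P.LiesOver (P.comap (algebraMap R A)) := ⟨rfl⟩
    obtain ⟨P', hP', hP'p, hover⟩ := Ideal.exists_ideal_lt_liesOver_of_lt (S := A) P hlt
    exact hP'.not_ge (hPmin.2 ⟨hP'p, Ideal.map_le_iff_le_comap.2 hover.over.le⟩ hP'.le)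
  have : P.LiesOver p := ⟨hcomap.symm⟩
  refine ⟨P, hP, hcomap, ?_, hPd.trans hd.symm⟩
  rw [Ideal.height_eq_height_add_of_liesOver_of_hasGoingDown p P]
  have hmin : P.map (Ideal.Quotient.mk J) ∈ minimalPrimes (A ⧸ J) := by
    rw [Ideal.minimalPrimes_eq_comap] at hPmin
    obtain ⟨q, hq, hqP⟩ := hPmin
    rwa [← hqP, Ideal.map_comap_of_surjective _ Ideal.Quotient.mk_surjective]
  have := hmin.1.1
  rw [Ideal.height_eq_zero_iff.2 hmin, add_zero]

end GrothLib.HLVT
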