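import Groth.Agent.Lib.HLVT.DualTop
import Groth.Agent.Lib.HLVT.Ara
import Groth.Agent.Lib.HLVT.ComplDim
import Groth.Agent.Lib.HLVT.Subring
import Groth.Agent.Lib.Cohen.Structure
import Groth.Agent.Lib.SGA2Fin.FiniteLength
import Groth.Agent.S5158
import Mathlib.RingTheory.Filtration

/-!
# The support of the canonical module
-/

universe u

open CategoryTheory IsLocalRing TensorProduct

namespace GrothLib.HLVT

variable {R : Type u} [CommRing R] [IsLocalRing R] [IsNoetherianRing R]

local notation "A" => AdicCompletion (maximalIdeal R) R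

section Pairing

variable {K E : Type u} [AddCommGroup K] [Module R K] [AddCommGroup E] [Module R E]

/-- The pairing with a fixed element of `Â ⊗ K`. -/
noncomputable def pairing (v : A ⊗[R] K) : A ⊗[R] (K →ₗ[R] E) →ₗ[A] A ⊗[R] E :=
  ((LinearMap.applyₗ (R := A) v).comp
    (LinearMap.liftBaseChange A
      ({ toFun := fun φ => φ.baseChange A
         map_add' := fun φ ψ => LinearMap.baseChange_add φ ψ
         map_smul' := fun r φ => LinearMap.baseChange_smul r φ } :
        (K →ₗ[R] E) →ₗ[R] (A ⊗[R] K →ₗ[A] A ⊗[R] E))))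

omit [IsNoetherianRing R] in
theorem pairing_one_tmul (v : A ⊗[R] K) (φ : K →ₗ[R] E) :
    pairing v ((1 : A) ⊗ₜ[R] φ) = φ.baseChange A v := by
  simp [pairing]

omit [IsNoetherianRing R] in
theorem pairing_smul (a : A) (v : A ⊗[R] K) (z : A ⊗[R] (K →ₗ[R] E)) :
    pairing (a • v) z = a • pairing v z := by
  simp [pairing]

/-- The pairing detects the elements of `Â ⊗ K`. -/
theorem eq_zero_of_pairing_eq_zero [Module.Finite R K] {f : ResidueField R →ₗ[R] E}
    (hf : InjHull.IsInjectiveHull f) {v : A ⊗[R] K} (h : pairing (E := E) v = 0) : v = 0 := by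
  have hE := GrothLib.Matlis.isPowerTorsion_of_hull (m := maximalIdeal R) hf
  rw [← Submodule.mem_bot A, ← Ideal.iInf_pow_smul_eq_bot_of_isLocalRing (M := A ⊗[R] K) (maximalIdeal A)
    (maximalIdeal.isMaximal A).ne_top, Submodule.mem_iInf]
  intro j
  let N : Submodule R K := (maximalIdeal R ^ j) • ⊤
  have htor : LocCoh.IsPowerTorsion (maximalIdeal R) (K ⧸ N) := fun z => by
    obtain ⟨k, rfl⟩ := Submodule.Quotient.mk_surjective _ z
    exact ⟨j, fun a ha => (Submodule.Quotient.mk_eq_zero N).2 (Submodule.smul_mem_smul ha Submodule.mem_top)⟩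
  obtain ⟨w, hw⟩ := (Groth.Agent.S5158.result R (K ⧸ N) htor).2 (N.mkQ.baseChange A v)
  have hw0 : w = 0 := by
    by_contra hne
    obtain ⟨ψ, hψ⟩ := GrothLib.Matlis.exists_apply_ne_zero hf hne
    refine hψ ((Groth.Agent.S5158.result R E hE).1 ?_)
    have h1 := LinearMap.congr_fun h ((1 : A) ⊗ₜ[R] (ψ.comp N.mkQ))
    rw [pairing_one_tmul, LinearMap.baseChange_comp, LinearMap.comp_apply, ← hw,
      LinearMap.zero_apply] at h1
    simpa using h1
  rw [hw0, map_zero] at hw
  have hex := lTensor_exact A (LinearMap.exact_subtype_mkQ N) N.mkQ_surjective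
  obtain ⟨y, rfl⟩ := (hex v).1 (by rw [LinearMap.baseChange_eq_ltensor] at hw; exact hw.symm)
  clear h hw
  induction y using TensorProduct.induction_on with
  | zero => rw [map_zero]; exact zero_mem _
  | add a b ha hb => rw [map_add]; exact add_mem ha hb
  | tmul a k =>
    obtain ⟨k, hk⟩ := k
    rw [LinearMap.lTensor_tmul]
    show a ⊗ₜ[R] k ∈ _
    refine Submodule.smul_induction_on hk (fun r hr m _ => ?_) fun x y hx hy => by
      rw [TensorProduct.tmul_add]; exact add_mem hx hy
    rw [TensorProduct.tmul_smul, algebra_compatible_smul A r]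
    refine Submodule.smul_mem_smul ?_ Submodule.mem_top
    have hm : (maximalIdeal R).map (algebraMap R A) = maximalIdeal A := AdicCompletion.maximalIdeal_eq_map.symm
    rw [← hm, ← Ideal.map_pow]
    exact Ideal.mem_map_of_mem _ hr

end Pairing

/-- Relative heights add up in a quotient of a regular local ring. -/
theorem relHeight_add_eq {S B : Type u} [CommRing S] [IsRegularLocalRing S] [CommRing B] [IsLocalRing B]
    [Algebra S B] (hπ : Function.Surjective (algebraMap S B)) (q p : Ideal B) [q.IsPrime] [p.IsPrime] (h : q ≤ p) :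
    GrothLib.Faltings.relHeight q p + GrothLib.Faltings.relHeight p (maximalIdeal B) =
      GrothLib.Faltings.relHeight q (maximalIdeal B) := by
  have := GrothLib.SGA2Fin.isRegularRing_of_isRegularLocalRing S
  have hpm : p ≤ maximalIdeal B := le_maximalIdeal (Ideal.IsPrime.ne_top ‹_›)
  rw [← GrothLib.SGA2Fin.relHeight_comap_eq hπ q p h, ← GrothLib.SGA2Fin.relHeight_comap_eq hπ p _ hpm,
    ← GrothLib.SGA2Fin.relHeight_comap_eq hπ q _ (h.trans hpm)]
  set Q := q.comap (algebraMap S B)
  set P := p.comap (algebraMap S B)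
  set T := (maximalIdeal B).comap (algebraMap S B)
  have hQP : Q ≤ P := Ideal.comap_mono h
  have hPT : P ≤ T := Ideal.comap_mono hpm
  obtain ⟨a, ha⟩ := ENat.ne_top_iff_exists.1 (Ideal.height_ne_top (I := Q) (Ideal.IsPrime.ne_top inferInstance))
  obtain ⟨b, hb⟩ := ENat.ne_top_iff_exists.1 (Ideal.height_ne_top (I := P) (Ideal.IsPrime.ne_top inferInstance))
  obtain ⟨g, hg⟩ := ENat.ne_top_iff_exists.1 (Ideal.height_ne_top (I := T) (Ideal.IsPrime.ne_top inferInstance))
  obtain ⟨c₁, hc₁⟩ := ENat.ne_top_iff_exists.1 (GrothLib.Faltings.relHeight_ne_top Q P hQP)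
  obtain ⟨c₂, hc₂⟩ := ENat.ne_top_iff_exists.1 (GrothLib.Faltings.relHeight_ne_top P T hPT)
  obtain ⟨c, hc⟩ := ENat.ne_top_iff_exists.1 (GrothLib.Faltings.relHeight_ne_top Q T (hQP.trans hPT))
  have e1 := GrothLib.SGA2Fin.height_eq_add_relHeight Q P hQP ha.symm hc₁.symm hb.symm
  have e2 := GrothLib.SGA2Fin.height_eq_add_relHeight P T hPT hb.symm hc₂.symm hg.symm
  have e3 := GrothLib.SGA2Fin.height_eq_add_relHeight Q T (hQP.trans hPT) ha.symm hc.symm hg.symm
  rw [← hc₁, ← hc₂, ← hc, ← Nat.cast_add, show c₁ + c₂ = c by omega]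

omit [IsNoetherianRing R] in
theorem height_add_dim_quotient_le (p : Ideal R) [p.IsPrime] :
    (p.height : WithBot ℕ∞) + ringKrullDim (R ⧸ p) ≤ ringKrullDim R := by
  rw [← GrothLib.SGA2Fin.relHeight_maximalIdeal, ← IsLocalRing.maximalIdeal_height_eq_ringKrullDim]
  exact WithBot.coe_le_coe.2 (GrothLib.Faltings.height_add_relHeight_le p _ (le_maximalIdeal (Ideal.IsPrime.ne_top ‹_›)))

variable {n : ℕ} {E : Type u} [AddCommGroup E] [Module R E] {f : ResidueField R →ₗ[R] E}
  {K : Type u} [AddCommGroup K] [Module R K] [Module.Finite R K]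

/-- The support of a canonical module lies in the expected set. -/
theorem height_add_dim_quotient_eq (hn : ringKrullDim R = n) (hf : InjHull.IsInjectiveHull f)
    (eK : (K →ₗ[R] E) ≃ₗ[R] LocCoh.H (maximalIdeal R) n R) (p : PrimeSpectrum R) (hp : p ∈ Module.support R K) :
    (p.asIdeal.height : WithBot ℕ∞) + ringKrullDim (R ⧸ p.asIdeal) = n := by
  refine le_antisymm ((height_add_dim_quotient_le p.asIdeal).trans hn.le) ?_
  obtain ⟨P, hP, hPp, hPh, hPd⟩ := exists_prime_over p.asIdeal
  rw [← hPh, ← hPd]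
  have hmA : IsAdicComplete (maximalIdeal A) A := by
    rw [AdicCompletion.maximalIdeal_eq_map]
    exact AdicCompletion.isAdicComplete_self _ (maximalIdeal R).fg_of_isNoetherianRing
  have hnA : ringKrullDim A = n := GrothLib.AdicExtra.ringKrullDim_adicCompletion.trans hn
  obtain ⟨k, hk⟩ := Module.mem_support_iff'.1 hp
  have hle : Module.annihilator A (A ⊗[R] K) ≤ P := fun a ha => by
    let g : R →ₗ[R] K := LinearMap.toSpanSingleton R K k
    have h0 : g.lTensor A (a ⊗ₜ[R] 1) = 0 := by
      rw [LinearMap.lTensor_tmul, LinearMap.toSpanSingleton_apply_one]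
      have := Module.mem_annihilator.1 ha ((1 : A) ⊗ₜ[R] k)
      rwa [TensorProduct.smul_tmul', smul_eq_mul, mul_one] at this
    have hex : Function.Exact ((LinearMap.ker g).subtype.lTensor A) (g.lTensor A) :=
      Module.Flat.lTensor_exact A (LinearMap.exact_subtype_ker_map g)
    obtain ⟨y, hy⟩ := (hex _).1 h0
    have hall : ∀ y, TensorProduct.rid R A ((LinearMap.ker g).subtype.lTensor A y) ∈ P := fun y => by
      induction y using TensorProduct.induction_on with
      | zero => rw [map_zero, map_zero]; exact zero_mem _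
      | add a b ha hb => rw [map_add, map_add]; exact add_mem ha hb
      | tmul b r =>
        rw [LinearMap.lTensor_tmul, TensorProduct.rid_tmul, Algebra.smul_def]
        refine Ideal.mul_mem_right _ _ ?_
        have hr : (r : R) • k = 0 := r.2
        have : (r : R) ∈ p.asIdeal := by_contra fun hc => hk r hc hr
        rw [← hPp] at this
        exact this
    have := hall y
    rwa [hy, TensorProduct.rid_tmul, one_smul] at this
  obtain ⟨q, hq, hqP⟩ := Ideal.exists_minimalPrimes_le hle
  have hqp := hq.1.1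
  have hass : IsAssociatedPrime q (A ⊗[R] K) :=
    Module.associatedPrimes.minimalPrimes_annihilator_subset_associatedPrimes A _ hq
  obtain ⟨-, v, hv⟩ := isAssociatedPrime_iff.1 hass
  have hv0 : v ≠ 0 := fun h => hqp.ne_top (by simp [hv, h])
  have hqv : ∀ a ∈ q, a • v = 0 := fun a ha => by
    rw [hv, Submodule.mem_colon_singleton, Submodule.mem_bot] at ha
    exact ha
  have hdq : ringKrullDim (A ⧸ q) = n := by
    refine le_antisymm ((ringKrullDim_quotient_le q).trans hnA.le) (not_lt.1 fun hlt => hv0 ?_)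
    refine eq_zero_of_pairing_eq_zero hf ?_
    obtain ⟨eB⟩ := GrothLib.LC.nonempty_baseChange_equiv (R' := A) (maximalIdeal R) n R
    let eH : LocCoh.H ((maximalIdeal R).map (algebraMap R A)) n A ≃ₗ[A] A ⊗[R] (K →ₗ[R] E) :=
      ((localCohomology ((maximalIdeal R).map (algebraMap R A)) n).mapIso
        (AlgebraTensorModule.rid R A A).toModuleIso).toLinearEquiv.symm ≪≫ₗ eB.symm ≪≫ₗ
          eK.symm.baseChange R A _ _
    have hsub : Subsingleton (LocCoh.H ((maximalIdeal R).map (algebraMap R A)) n (A ⧸ q • (⊤ : Submodule A A))) := by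
      refine GrothLib.LC.subsingleton_of_supportDim_lt n A _ _ (lt_of_le_of_lt ?_ hlt)
      rw [ringKrullDim_quotient]
      exact Order.krullDim_le_of_strictMono (Set.inclusion (support_quotient_smul_top_subset q A)) fun _ _ h => h
    have h0 : (pairing (E := E) v).comp eH.toLinearMap = 0 :=
      eq_zero_of_smul_eq_zero A ((maximalIdeal R).map (algebraMap R A)) q
        ((Module.supportDim_self_eq_ringKrullDim (R := A)).trans hnA).le hsub _ fun a ha =>
          LinearMap.ext fun x => by
            rw [LinearMap.smul_apply, LinearMap.comp_apply, ← pairing_smul, hqv a ha]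
            simp [pairing]
    refine LinearMap.ext fun z => ?_
    obtain ⟨x, rfl⟩ := eH.surjective z
    exact LinearMap.congr_fun h0 x
  obtain ⟨Λ, _, m, π, hΛ, hπ⟩ := GrothLib.Cohen.exists_surjective_mvPowerSeries A
    (maximalIdeal A).fg_of_isNoetherianRing
  have : IsRegularLocalRing (MvPowerSeries (Fin m) Λ) := by
    rcases hΛ with hF | ⟨hd, hv, hc, l, hl, hm⟩
    · let _ := hF.toField
      exact GrothLib.RegLoc.PS.isRegularLocalRing (d := m) Λ
    · have := GrothLib.Cohen.charZero_of_maximalIdeal_eq_span Λ l hl hm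
      exact GrothLib.J2.isRegularLocalRing_powerSeries (l : Λ) (Nat.cast_ne_zero.2 hl.ne_zero) hm m
  let _ : Algebra (MvPowerSeries (Fin m) Λ) A := π.toAlgebra
  have hadd := relHeight_add_eq (S := MvPowerSeries (Fin m) Λ) (B := A) hπ q P hqP
  rw [← GrothLib.SGA2Fin.relHeight_maximalIdeal] at hdq ⊢
  rw [← hdq, ← hadd]
  refine WithBot.coe_le_coe.2 (add_le_add ?_ le_rfl)
  exact le_trans le_add_self (GrothLib.Faltings.height_add_relHeight_le q P hqP)

end GrothLib.HLVT
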