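import Groth.Agent.Lib.HLVT.Conn
import Groth.Agent.Lib.InjMod.Matlis
import Mathlib.RingTheory.Support

/-!
# Associated primes of the Matlis dual of the top local cohomology
-/

universe u

open CategoryTheory IsLocalRing

namespace GrothLib.HLVT

variable {R : Type u} [CommRing R] [IsNoetherianRing R]

omit [IsNoetherianRing R] in
theorem supportDim_le_of_injective' {M N : Type u} [AddCommGroup M] [Module R M] [AddCommGroup N] [Module R N]
    (g : M →ₗ[R] N) (hg : Function.Injective g) : Module.supportDim R M ≤ Module.supportDim R N :=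
  Order.krullDim_le_of_strictMono (Set.inclusion (Module.support_subset_of_injective g hg)) fun _ _ h => h

/-- In degree `dim Supp M` local cohomology is right exact below `M`. -/
theorem map_surjective_top (I : Ideal R) {n : ℕ} {M N : ModuleCat.{u} R} (g : M ⟶ N) (hg : Function.Surjective g)
    (h : Module.supportDim R M ≤ n) : Function.Surjective ((localCohomology I n).map g) := by
  let K : Submodule R M := LinearMap.ker g.hom
  let S : ShortComplex (ModuleCat.{u} R) := ShortComplex.mk (ModuleCat.ofHom K.subtype) g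
    (ModuleCat.hom_ext (LinearMap.ext fun x => x.2))
  have hS : S.ShortExact :=
    { exact := (ShortComplex.moduleCat_exact_iff _).2 fun x hx => ⟨⟨x, hx⟩, rfl⟩
      mono_f := (ModuleCat.mono_iff_injective _).2 K.injective_subtype
      epi_g := (ModuleCat.epi_iff_surjective _).2 hg }
  intro x
  refine GrothLib.LC.exists_of_δ_eq_zero I hS n (x := x) ?_
  refine @Subsingleton.elim _ ?_ _ _
  exact GrothLib.LC.subsingleton_of_supportDim_lt (n + 1) R I K
    (lt_of_le_of_lt ((supportDim_le_of_injective' K.subtype K.injective_subtype).trans h)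
      (by exact_mod_cast Nat.lt_succ_self n))

omit [IsNoetherianRing R] in
theorem support_quotient_smul_top_subset (q : Ideal R) (M : Type u) [AddCommGroup M] [Module R M] [Module.Finite R M] :
    Module.support R (M ⧸ q • (⊤ : Submodule R M)) ⊆ PrimeSpectrum.zeroLocus (q : Set R) := by
  rw [Module.support_quotient]
  exact Set.inter_subset_right

omit [IsNoetherianRing R] in
theorem smul_H_eq_zero {I : Ideal R} {i : ℕ} {M : Type u} [AddCommGroup M] [Module R M] {a : R}
    (ha : ∀ m : M, a • m = 0) (x : LocCoh.H I i M) : a • x = 0 := by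
  have h : (a • 𝟙 (ModuleCat.of R M)) = (0 : R) • 𝟙 (ModuleCat.of R M) :=
    ModuleCat.hom_ext (LinearMap.ext fun m => (ha m).trans (zero_smul R m).symm)
  exact (congrArg (a • ·) (GrothLib.LC.map_id_apply I i x)).symm.trans
    ((GrothLib.LC.map_smul_apply I i a _ x).symm.trans ((congrArg (fun g => (localCohomology I i).map g x) h).trans
      ((GrothLib.LC.map_smul_apply I i 0 _ x).trans (zero_smul R _))))

variable [IsLocalRing R] [IsAdicComplete (maximalIdeal R) R]
variable {E : Type u} [AddCommGroup E] [Module R E] {f : ResidueField R →ₗ[R] E}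
variable (M : Type u) [AddCommGroup M] [Module R M] [Module.Finite R M]

omit [IsLocalRing R] [IsAdicComplete (maximalIdeal R) R] in
/-- A functional on `H^n_I(M)` killed by `q` vanishes if `H^n_I(M/qM) = 0`. -/
theorem eq_zero_of_smul_eq_zero (I q : Ideal R) {n : ℕ} (hn : Module.supportDim R M ≤ n)
    (h : Subsingleton (LocCoh.H I n (M ⧸ q • (⊤ : Submodule R M)))) (v : LocCoh.H I n M →ₗ[R] E)
    (hv : ∀ a ∈ q, a • v = 0) : v = 0 := by
  classical
  obtain ⟨s, hs⟩ := IsNoetherian.noetherian q
  let N : Submodule R M := q • ⊤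
  let S : ShortComplex (ModuleCat.{u} R) := ShortComplex.mk (ModuleCat.ofHom N.subtype) (ModuleCat.ofHom N.mkQ)
    (ModuleCat.hom_ext (LinearMap.ext fun x => (Submodule.Quotient.mk_eq_zero N).2 x.2))
  have hS : S.ShortExact :=
    { exact := (ShortComplex.moduleCat_exact_iff _).2 fun x hx => ⟨⟨x, (Submodule.Quotient.mk_eq_zero N).1 hx⟩, rfl⟩
      mono_f := (ModuleCat.mono_iff_injective _).2 N.injective_subtype
      epi_g := (ModuleCat.epi_iff_surjective _).2 N.mkQ_surjective }
  let π : (s → M) →ₗ[R] M := ∑ a : s, (a : R) • LinearMap.proj a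
  have hπ : ∀ x, π x ∈ N := fun x => by
    simp only [π, LinearMap.sum_apply, LinearMap.smul_apply, LinearMap.proj_apply]
    exact Submodule.sum_mem _ fun a _ =>
      Submodule.smul_mem_smul (hs ▸ Ideal.subset_span a.2) Submodule.mem_top
  have hsurj : Function.Surjective (π.codRestrict N hπ) := by
    rintro ⟨x, hx⟩
    have hx' : x ∈ LinearMap.range π := by
      refine Submodule.smul_induction_on hx (fun r hr m _ => ?_) fun x y hx hy => add_mem hx hy
      revert hr
      rw [← hs]
      intro hr
      induction hr using Submodule.span_induction with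
      | mem a ha =>
        refine ⟨Pi.single ⟨a, ha⟩ m, ?_⟩
        simp only [π, LinearMap.sum_apply, LinearMap.smul_apply, LinearMap.proj_apply]
        rw [Finset.sum_eq_single ⟨a, ha⟩]
        · rw [Pi.single_eq_same]
        · intro b _ hb
          rw [Pi.single_eq_of_ne hb, smul_zero]
        · exact fun h => absurd (Finset.mem_univ _) h
      | zero => rw [zero_smul]; exact zero_mem _
      | add a b _ _ ha hb => rw [add_smul]; exact add_mem ha hb
      | smul c a _ ha => rw [smul_assoc]; exact Submodule.smul_mem _ c ha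
    obtain ⟨y, rfl⟩ := hx'
    exact ⟨y, rfl⟩
  refine LinearMap.ext fun x => ?_
  obtain ⟨y, rfl⟩ := GrothLib.LC.exists_of_map_g_eq_zero I hS n (x := x) (@Subsingleton.elim _ h _ _)
  have hdim : Module.supportDim R (s → M) ≤ n := by
    have hsub : Module.support R (s → M) ⊆ Module.support R M := fun P hP => by
      rw [Module.mem_support_iff_of_finite] at hP ⊢
      exact le_trans (fun a ha => Module.mem_annihilator.2 fun (z : (s → M)) => funext fun i =>
        Module.mem_annihilator.1 ha (z i)) hP
    exact (Order.krullDim_le_of_strictMono (Set.inclusion hsub) fun _ _ h => h).trans hn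
  obtain ⟨z, rfl⟩ := map_surjective_top I
    (ModuleCat.ofHom (π.codRestrict N hπ) : ModuleCat.of R (s → M) ⟶ ModuleCat.of R N) hsurj hdim y
  rw [← ConcreteCategory.comp_apply, ← Functor.map_comp]
  have heq : ModuleCat.ofHom (π.codRestrict N hπ) ≫ S.f =
      ∑ a : s, (a : R) • (ModuleCat.ofHom (LinearMap.proj a) : ModuleCat.of R (s → M) ⟶ ModuleCat.of R M) := by
    refine ModuleCat.hom_ext (LinearMap.ext fun w => ?_)
    simp [π, S, ModuleCat.hom_sum]
  rw [heq, GrothLib.LC.map_sum_apply, map_sum, LinearMap.zero_apply]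
  refine Finset.sum_eq_zero fun a _ => ?_
  rw [GrothLib.LC.map_smul_apply, map_smul]
  exact LinearMap.congr_fun (hv a (hs ▸ Ideal.subset_span a.2)) _

omit [IsLocalRing R] [IsNoetherianRing R] [IsAdicComplete (maximalIdeal R) R] [Module.Finite R M] in
theorem annihilator_le_of_mem_ass {I : Ideal R} {n : ℕ} {v : LocCoh.H I n M →ₗ[R] E} :
    Module.annihilator R M ≤ LinearMap.ker (LinearMap.toSpanSingleton R _ v) := fun a ha => by
  refine LinearMap.mem_ker.2 (LinearMap.ext fun x => ?_)
  show a • v x = 0
  rw [← map_smul, smul_H_eq_zero (fun m => Module.mem_annihilator.1 ha m) x, map_zero]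

omit [Module.Finite R M] in
theorem subsingleton_top_quotient (I : Ideal R) (q : Ideal R) [q.IsPrime] {n : ℕ}
    (hq : ringKrullDim (R ⧸ q) = n) (hI : (I ⊔ q).radical ≠ maximalIdeal R) :
    Subsingleton (LocCoh.H I n (M ⧸ q • (⊤ : Submodule R M))) := by
  by_cases htop : I = ⊤
  · subst htop
    refine subsingleton_of_forall_eq 0 fun x => ?_
    obtain ⟨k, hk⟩ := GrothLib.LC.isPowerTorsion (⊤ : Ideal R) n _ x
    rw [← one_smul R x]
    exact hk 1 (by rw [Ideal.top_pow]; trivial)
  have : IsLocalRing (R ⧸ q) := IsLocalRing.of_surjective' (Ideal.Quotient.mk q) Ideal.Quotient.mk_surjective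
  have : IsAdicComplete (maximalIdeal (R ⧸ q)) (R ⧸ q) := GrothLib.AdicExtra.isAdicComplete_localRing (R := R)
  have h1 : 1 ≤ ringKrullDim ((R ⧸ q) ⧸ I.map (algebraMap R (R ⧸ q))) := by
    refine le_of_le_of_eq ?_ (ringKrullDim_eq_of_ringEquiv (DoubleQuot.quotQuotEquivQuotSup q I)).symm
    have hne : q ⊔ I ≠ ⊤ := ne_top_of_le_ne_top (maximalIdeal.isMaximal R).ne_top
      (sup_le (le_maximalIdeal (Ideal.IsPrime.ne_top ‹_›)) (le_maximalIdeal htop))
    obtain ⟨d, hd⟩ := exists_nat_ringKrullDim_quotient hne
    rw [hd]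
    rcases Nat.eq_zero_or_pos d with rfl | hpos
    · refine absurd ?_ hI
      have : Ring.KrullDimLE 0 (R ⧸ (q ⊔ I)) := Ring.krullDimLE_iff.2 hd.le
      rw [sup_comm, Ideal.radical_eq_sInf]
      refine le_antisymm (sInf_le ⟨sup_le (le_maximalIdeal (Ideal.IsPrime.ne_top ‹_›)) (le_maximalIdeal htop),
        inferInstance⟩) (le_sInf fun P ⟨hle, hP⟩ => ?_)
      have hp0 : (P.map (Ideal.Quotient.mk (q ⊔ I))).IsPrime :=
        Ideal.map_isPrime_of_surjective Ideal.Quotient.mk_surjective (by rwa [Ideal.mk_ker])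
      have := Ideal.IsPrime.isMaximal' hp0
      have h2 := Ideal.comap_isMaximal_of_surjective (Ideal.Quotient.mk (q ⊔ I))
        Ideal.Quotient.mk_surjective (K := P.map (Ideal.Quotient.mk (q ⊔ I)))
      rw [Ideal.comap_map_of_surjective _ Ideal.Quotient.mk_surjective, ← RingHom.ker_eq_comap_bot,
        Ideal.mk_ker, sup_eq_left.2 hle] at h2
      exact (IsLocalRing.eq_maximalIdeal h2).ge
    · exact_mod_cast hpos
  exact (GrothLib.LC.subsingleton_map_iff I n (M ⧸ q • (⊤ : Submodule R M))).1
    (GrothLib.LC.subsingleton_of_ring _ n (GrothLib.LC.cdLE_dim _ n hq.le)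
      (subsingleton_top_of_domain (R ⧸ q) hq _ h1) _)

variable {M}

/-- Associated primes of the dual of the top local cohomology. -/
theorem associatedPrimes_dual_top (hf : InjHull.IsInjectiveHull f) (I : Ideal R) {n : ℕ}
    (hn : Module.supportDim R M = n) :
    associatedPrimes R (LocCoh.H I n M →ₗ[R] E) =
      {p : Ideal R | p.IsPrime ∧ Module.annihilator R M ≤ p ∧ ringKrullDim (R ⧸ p) = n ∧
        (I ⊔ p).radical = maximalIdeal R} := by
  have hquot : ∀ q : Ideal R, q.IsPrime → ∀ v : LocCoh.H I n M →ₗ[R] E, v ≠ 0 → (∀ a ∈ q, a • v = 0) →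
      Module.annihilator R M ≤ q → ringKrullDim (R ⧸ q) = n ∧ (I ⊔ q).radical = maximalIdeal R := by
    intro q hq v hv hqv hle
    have hd : ringKrullDim (R ⧸ q) = n := by
      rcases lt_or_eq_of_le (show ringKrullDim (R ⧸ q) ≤ n from hn ▸
        (ringKrullDim_le_of_surjective _ (Ideal.Quotient.factor_surjective hle)).trans
          (le_of_eq (Module.supportDim_eq_ringKrullDim_quotient_annihilator (R := R) (M := M)).symm)) with hlt | heq
      · refine absurd (eq_zero_of_smul_eq_zero M I q hn.le
          (GrothLib.LC.subsingleton_of_supportDim_lt n R I _ (lt_of_le_of_lt ?_ hlt)) v hqv) hv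
        rw [ringKrullDim_quotient]
        exact Order.krullDim_le_of_strictMono (Set.inclusion (support_quotient_smul_top_subset q M)) fun _ _ h => h
      · exact heq
    exact ⟨hd, by_contra fun hI => hv (eq_zero_of_smul_eq_zero M I q hn.le
      (subsingleton_top_quotient M I q hd hI) v hqv)⟩
  ext p
  constructor
  · intro hp
    obtain ⟨hp', v, hpv⟩ := isAssociatedPrime_iff.1 hp
    have hmem : ∀ a, a ∈ p ↔ a • v = 0 := fun a => by
      rw [hpv, Submodule.mem_colon_singleton, Submodule.mem_bot]
    have hv : v ≠ 0 := fun h => hp'.ne_top ((Ideal.eq_top_iff_one _).2 ((hmem 1).2 (by rw [h, smul_zero])))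
    have hle : Module.annihilator R M ≤ p := fun a ha => (hmem a).2 (annihilator_le_of_mem_ass M ha)
    exact ⟨hp', hle, hquot p hp' v hv (fun a ha => (hmem a).1 ha) hle⟩
  · rintro ⟨hp, hle, hd, hrad⟩
    let N : Submodule R M := p • ⊤
    have hsupp : Module.support R (M ⧸ N) = PrimeSpectrum.zeroLocus (p : Set R) := by
      rw [Module.support_quotient]
      refine Set.inter_eq_right.2 fun P hP => ?_
      rw [Module.mem_support_iff_of_finite]
      exact hle.trans hP
    have hsd : Module.supportDim R (M ⧸ N) = n := by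
      rw [Module.supportDim, hsupp, ← ringKrullDim_quotient, hd]
    have hIm : I ≤ maximalIdeal R := (le_sup_left.trans Ideal.le_radical).trans hrad.le
    have hnt : Nontrivial (LocCoh.H I n (M ⧸ N)) := by
      rw [← not_subsingleton_iff_nontrivial]
      intro h0
      refine not_subsingleton_iff_nontrivial.2
        (GrothLib.LC.not_finite_and_nontrivial_H_maximal n (M ⧸ N) hsd).1
        (@Function.Injective.subsingleton _ _ _ (GrothLib.LC.hmap_injective_of_punctual
          (ModuleCat.of R (M ⧸ N)) n I (maximalIdeal R) hIm fun P hP hP' j _ => ?_) h0)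
      have h1 : Subsingleton (LocalizedModule P.asIdeal.primeCompl (M ⧸ N)) := by
        rw [← Module.notMem_support_iff, hsupp]
        intro hpP
        refine hP' ?_
        rw [← hrad, Ideal.IsPrime.radical_le_iff P.2]
        exact sup_le hP hpP
      refine GrothLib.LC.subsingleton_of_supportDim_lt j _ _ _ ?_
      rw [Module.supportDim_eq_bot_of_subsingleton]
      exact WithBot.bot_lt_coe _
    obtain ⟨x, hx⟩ := exists_ne (0 : LocCoh.H I n (M ⧸ N))
    obtain ⟨φ, hφ⟩ := GrothLib.Matlis.exists_apply_ne_zero hf hx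
    let g := ((localCohomology I n).map (ModuleCat.ofHom N.mkQ : ModuleCat.of R M ⟶ ModuleCat.of R (M ⧸ N))).hom
    have hv : φ.comp g ≠ 0 := fun h0 => hφ (by
      obtain ⟨y, hy⟩ := map_surjective_top I (ModuleCat.ofHom N.mkQ : ModuleCat.of R M ⟶ ModuleCat.of R (M ⧸ N))
        N.mkQ_surjective hn.le x
      rw [← hy]
      exact LinearMap.congr_fun h0 y)
    have hpv : ∀ a ∈ p, a • φ.comp g = 0 := fun a ha => LinearMap.ext fun y => by
      show a • φ (g y) = 0
      rw [← map_smul]
      refine (congrArg φ (smul_H_eq_zero (fun m => ?_) (g y))).trans (map_zero φ)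
      obtain ⟨m, rfl⟩ := Submodule.Quotient.mk_surjective _ m
      exact (Submodule.Quotient.mk_eq_zero N).2 (Submodule.smul_mem_smul ha Submodule.mem_top)
    obtain ⟨q, hq, hqle⟩ := exists_le_isAssociatedPrime_of_isNoetherianRing R _ hv
    have hpq : p ≤ q := fun a ha => hqle (Submodule.mem_colon_singleton.2 ((Submodule.mem_bot R).2 (hpv a ha)))
    obtain ⟨hq', w, hw⟩ := isAssociatedPrime_iff.1 hq
    have hqn := (hquot q hq' w (fun h => hq'.ne_top (by simp [hw, h])) (fun a ha => by
      rw [hw, Submodule.mem_colon_singleton, Submodule.mem_bot] at ha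
      exact ha) (hle.trans hpq)).1
    rcases eq_or_lt_of_le hpq with rfl | hlt
    · exact hq
    obtain ⟨x', hxq, hxp⟩ := SetLike.exists_of_lt hlt
    have h1 := ringKrullDim_sup_span_add_one_le (I := p) (x := x') fun P hP => by
      rw [Ideal.minimalPrimes_eq_subsingleton_self] at hP
      exact hP ▸ hxp
    have h2 : (n : WithBot ℕ∞) ≤ ringKrullDim (R ⧸ (p ⊔ Ideal.span {x'})) :=
      hqn ▸ ringKrullDim_le_of_surjective _
        (Ideal.Quotient.factor_surjective (sup_le hpq ((Ideal.span_singleton_le_iff_mem q).2 hxq)))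
    have h3 : (n : WithBot ℕ∞) + 1 ≤ n := (add_le_add h2 le_rfl).trans (h1.trans hd.le)
    exact absurd (by exact_mod_cast h3 : n + 1 ≤ n) (by omega)

end GrothLib.HLVT
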