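import Groth.Agent.Lib.HLVT.Chevalley
import Mathlib.RingTheory.Ideal.GoingUp
import Mathlib.RingTheory.Ideal.MinimalPrime.Noetherian
import Mathlib.RingTheory.IntegralClosure.IsIntegral.Basic

/-!
# A monogenic subalgebra isolating a one-dimensional prime
-/

universe u

open IsLocalRing

namespace GrothLib.HLVT

variable {R' R : Type u} [CommRing R'] [CommRing R] [IsNoetherianRing R] [IsLocalRing R] [Algebra R' R]
  [Module.Finite R' R]

theorem exists_radical_span_inter_adjoin (p : Ideal R) [p.IsPrime] (hp : ringKrullDim (R ⧸ p) = 1) :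
    ∃ b : R, (Ideal.span ((p : Set R) ∩ (Algebra.adjoin R' ({b} : Set R) : Set R))).radical = p := by
  classical
  let q : Ideal R' := p.comap (algebraMap R' R)
  let S : Set (Ideal R) := {Q | Q.IsPrime ∧ Q ≠ p ∧ Q.comap (algebraMap R' R) = q}
  have hS : S.Finite := ((q.map (algebraMap R' R)).finite_minimalPrimes_of_isNoetherianRing R).subset
    fun Q hQ => by
      have := hQ.1
      have h := Ideal.IsIntegral.mem_minimalPrimes_map_under (R := R') Q
      rwa [show Q.under R' = q from hQ.2.2] at h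
  obtain ⟨b, hbp, hb⟩ : ∃ b ∈ p, ∀ Q ∈ S, b ∉ Q := by
    by_contra hc
    simp only [not_exists, not_and, not_forall, not_not] at hc
    have hsub : (p : Set R) ⊆ ⋃ Q ∈ (↑hS.toFinset : Set (Ideal R)), (id Q : Ideal R) := fun x hx => by
      obtain ⟨Q, hQ, hxQ⟩ := hc x hx
      exact Set.mem_biUnion (by simpa using hQ) hxQ
    obtain ⟨Q, hQ, hle⟩ := (Ideal.subset_union_prime (f := (id : Ideal R → Ideal R)) ⊥ ⊥
      (fun Q hQ _ _ => (hS.mem_toFinset.1 hQ).1)).1 hsub
    obtain ⟨hQp, hne, hQq⟩ := hS.mem_toFinset.1 hQ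
    have hlt := Ideal.IsIntegral.comap_lt_comap (R := R') (lt_of_le_of_ne hle hne.symm : p < Q)
    exact hlt.ne hQq.symm
  refine ⟨b, le_antisymm ((Ideal.IsPrime.radical_le_iff ‹_›).2 (Ideal.span_le.2 Set.inter_subset_left)) ?_⟩
  rw [Ideal.radical_eq_sInf]
  refine le_sInf fun Q ⟨hle, hQ⟩ => ?_
  have hmem : ∀ x ∈ p, x ∈ (Algebra.adjoin R' ({b} : Set R) : Set R) → x ∈ Q := fun x hx hx' =>
    hle (Ideal.subset_span ⟨hx, hx'⟩)
  have hqQ : q ≤ Q.comap (algebraMap R' R) := fun r hr =>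
    hmem _ hr ((Algebra.adjoin R' {b}).algebraMap_mem r)
  by_cases hQq : Q.comap (algebraMap R' R) = q
  · by_contra hne
    exact hb Q ⟨hQ, fun e => hne (e ▸ le_rfl), hQq⟩ (hmem b hbp (Algebra.subset_adjoin rfl))
  · obtain ⟨P', hpP', hP', hP'Q⟩ := Ideal.exists_ideal_over_prime_of_isIntegral_of_isPrime (S := R)
      (Q.comap (algebraMap R' R)) p hqQ
    have hne : p ≠ P' := fun e => hQq (hP'Q.symm.trans (by rw [← e]))
    have hmax := eq_maximalIdeal_of_lt hp (lt_of_le_of_ne hpP' hne)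
    have h2 : (Q.comap (algebraMap R' R)).IsMaximal := by
      rw [← hP'Q, hmax]
      exact Ideal.isMaximal_comap_of_isIntegral_of_isMaximal (maximalIdeal R)
    have h3 := Ideal.IsIntegral.isMaximal_of_isMaximal_comap (R := R') Q h2
    rw [IsLocalRing.eq_maximalIdeal h3]
    exact le_maximalIdeal (Ideal.IsPrime.ne_top ‹_›)

end GrothLib.HLVT
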