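import Groth.Agent.Lib.HLVT.Gorenstein
import Groth.Agent.Lib.HLVT.Adjoin
import Groth.Agent.Lib.HLVT.Subring
import Groth.Agent.Lib.LC.TopVanish
import Groth.Agent.Lib.LC.Support
import Groth.Agent.Lib.LC.RightExact
import Groth.Agent.Lib.LC.FlatBC
import Groth.Agent.Lib.AdicExtra.FiniteAlg
import Groth.Agent.Lib.AdicExtra.Completion
import Groth.Agent.Lib.Dim.Ring
import Groth.Agent.Lib.RegUFD.Basic
import Mathlib.FieldTheory.Minpoly.IsIntegrallyClosed
import Mathlib.RingTheory.Ideal.AssociatedPrime.Finiteness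
import Mathlib.RingTheory.KrullDimension.NonZeroDivisors

/-!
# The Hartshorne-Lichtenbaum vanishing theorem
-/

universe u

open CategoryTheory IsLocalRing Polynomial TensorProduct

namespace GrothLib.HLVT

theorem ringKrullDim_quotient_under {B R : Type u} [CommRing B] [CommRing R] [Algebra B R] [Algebra.IsIntegral B R]
    (p : Ideal R) : ringKrullDim (B ⧸ p.under B) = ringKrullDim (R ⧸ p) :=
  (GrothLib.Dim.ringKrullDim_eq_of_isIntegral
    (FaithfulSMul.algebraMap_injective (B ⧸ p.under B) (R ⧸ p))).symm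

/-- A one-dimensional prime of a complete local domain of dimension `n`. -/
theorem subsingleton_top_prime (R : Type u) [CommRing R] [IsDomain R] [IsLocalRing R] [IsNoetherianRing R]
    [IsAdicComplete (maximalIdeal R) R] {n : ℕ} (hn : ringKrullDim R = n) (p : Ideal R) [p.IsPrime]
    (hp : ringKrullDim (R ⧸ p) = 1) : Subsingleton (LocCoh.H p n R) := by
  obtain ⟨Λ, _, m, f, -, hinj, hfin, -, hreg, hcompl⟩ := exists_regular_subring R
  let R' := MvPowerSeries (Fin m) Λ
  let _ : Algebra R' R := f.toAlgebra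
  have : Module.Finite R' R := hfin
  have : IsDomain R' := GrothLib.CMFree.isDomain_of_isRegularLocalRing R'
  have : UniqueFactorizationMonoid R' := GrothLib.RegUFD.ufd_of_isRegularLocalRing R'
  have : IsRegularRing R' := GrothLib.Serre.isRegularRing_of_isRegularLocalRing R'
  obtain ⟨b, hb⟩ := exists_radical_span_inter_adjoin (R' := R') p hp
  let B := Algebra.adjoin R' ({b} : Set R)
  have hbi : IsIntegral R' b := Algebra.IsIntegral.isIntegral b
  have : FaithfulSMul R' R := (faithfulSMul_iff_algebraMap_injective _ _).2 hinj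
  have : IsNoetherian R' R := isNoetherian_of_isNoetherianRing_of_finite R' R
  have : Module.Finite R' B := Module.Finite.of_injective B.val.toLinearMap Subtype.val_injective
  have : IsNoetherianRing B := IsNoetherianRing.of_finite R' B
  have : Module.Finite B R := Module.Finite.of_restrictScalars_finite R' B R
  have hinjB : Function.Injective (algebraMap B R) := Subtype.val_injective
  have : IsLocalRing B := IsLocalRing.of_unique_max_ideal ⟨(maximalIdeal R).comap (algebraMap B R),
    Ideal.isMaximal_comap_of_isIntegral_of_isMaximal _, fun Q hQ => by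
      obtain ⟨Q', hQ', hQ''⟩ := Ideal.exists_ideal_over_maximal_of_isIntegral (S := R) Q
        (by rw [(RingHom.injective_iff_ker_eq_bot _).1 hinjB]; exact bot_le)
      rw [← hQ'', IsLocalRing.eq_maximalIdeal hQ']⟩
  have : IsAdicComplete (maximalIdeal B) B := GrothLib.AdicExtra.isAdicComplete_localRing (R := R')
  have hnB : ringKrullDim B = n := (GrothLib.Dim.ringKrullDim_eq_of_isIntegral hinjB).symm.trans hn
  let q : Ideal B := p.under B
  have hq : ringKrullDim (B ⧸ q) = 1 := (ringKrullDim_quotient_under p).trans hp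
  let π : R'[X] →+* B :=
    (minpoly.equivAdjoin hbi).toRingEquiv.toRingHom.comp (AdjoinRoot.mk (minpoly R' b))
  have hπ : Function.Surjective π :=
    (minpoly.equivAdjoin hbi).surjective.comp AdjoinRoot.mk_surjective
  have hker : RingHom.ker π = Ideal.span {minpoly R' b} := by
    ext g
    rw [RingHom.mem_ker, Ideal.mem_span_singleton, ← AdjoinRoot.mk_eq_zero]
    exact map_eq_zero_iff _ (minpoly.equivAdjoin hbi).injective
  have h0 : Subsingleton (LocCoh.H q n B) :=
    subsingleton_top_hypersurface R'[X] π hπ (minpoly.ne_zero hbi) hker hnB q hq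
  have h1 : Subsingleton (LocCoh.H (q.map (algebraMap B R)) n R) :=
    (GrothLib.LC.subsingleton_map_iff q n R).2
      (GrothLib.LC.subsingleton_of_ring q n (GrothLib.LC.cdLE_dim q n hnB.le) h0 R)
  have hle : q.map (algebraMap B R) ≤ p := Ideal.map_comap_le
  have hinj' : Function.Injective (GrothLib.LC.hmap hle n (ModuleCat.of R R)).hom :=
    GrothLib.LC.hmap_injective_of_punctual _ n _ _ hle fun P hP hP' => absurd (by
      rw [← hb, Ideal.IsPrime.radical_le_iff P.isPrime, Ideal.span_le]
      rintro x ⟨hx, hx'⟩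
      exact hP (Ideal.mem_map_of_mem (algebraMap B R) (show (⟨x, hx'⟩ : B) ∈ q from hx))) hP'
  exact @Function.Injective.subsingleton _ _ _ hinj' h1

/-- `H^n_I(R) = 0` for a complete local domain of dimension `n` and `dim R/I > 0`. -/
theorem subsingleton_top_of_domain (R : Type u) [CommRing R] [IsDomain R] [IsLocalRing R] [IsNoetherianRing R]
    [IsAdicComplete (maximalIdeal R) R] {n : ℕ} (hn : ringKrullDim R = n) (I : Ideal R)
    (hI : 1 ≤ ringKrullDim (R ⧸ I)) : Subsingleton (LocCoh.H I n R) := by
  obtain ⟨p, hp, hIp, hp1⟩ := GrothLib.LC.exists_prime_dim_quotient_eq_one I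
    (lt_of_lt_of_le zero_lt_one hI)
  refine GrothLib.LC.subsingleton_top_of_le hn.le hIp ?_ (ModuleCat.of R R)
    (subsingleton_top_prime R hn p hp1)
  rw [IsLocalRing.jacobson_eq_maximalIdeal ⊥ bot_ne_top]
  exact le_maximalIdeal hp.ne_top

theorem mem_minimalPrimes_of_dim_eq {A : Type u} [CommRing A] {d : ℕ}
    (hd : ringKrullDim A ≤ d) (P : Ideal A) [P.IsPrime] (hP : ringKrullDim (A ⧸ P) = d) :
    P ∈ minimalPrimes A := by
  obtain ⟨P₀, hP₀, hle⟩ := Ideal.exists_minimalPrimes_le (bot_le : (⊥ : Ideal A) ≤ P)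
  have := hP₀.1.1
  rcases eq_or_lt_of_le hle with rfl | hlt
  · exact hP₀
  obtain ⟨x, hx, hx'⟩ := SetLike.exists_of_lt hlt
  have hne : Ideal.Quotient.mk P₀ x ∈ nonZeroDivisors (A ⧸ P₀) :=
    mem_nonZeroDivisors_of_ne_zero fun h => hx' (Ideal.Quotient.eq_zero_iff_mem.1 h)
  have h1 := ringKrullDim_quotient_succ_le_of_nonZeroDivisor hne
  have h2 : ringKrullDim (A ⧸ P) ≤ ringKrullDim ((A ⧸ P₀) ⧸ Ideal.span {Ideal.Quotient.mk P₀ x}) :=
    ringKrullDim_le_of_surjective (Ideal.Quotient.lift _ (Ideal.Quotient.factor hle) (by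
      intro z hz
      obtain ⟨c, rfl⟩ := Ideal.mem_span_singleton.1 hz
      obtain ⟨c, rfl⟩ := Ideal.Quotient.mk_surjective c
      simpa using (Ideal.Quotient.eq_zero_iff_mem.2 (Ideal.mul_mem_right c P hx))))
      (Ideal.Quotient.lift_surjective_of_surjective _ _ (Ideal.Quotient.factor_surjective hle))
  have h3 : (d : WithBot ℕ∞) + 1 ≤ d := by
    rw [hP] at h2
    exact (add_le_add h2 le_rfl).trans (h1.trans ((ringKrullDim_quotient_le P₀).trans hd))
  have : d + 1 ≤ d := by exact_mod_cast h3
  omega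

/-- HLVT over a complete local ring. -/
theorem subsingleton_top_of_complete (A : Type u) [CommRing A] [IsLocalRing A] [IsNoetherianRing A]
    [IsAdicComplete (maximalIdeal A) A] {d : ℕ} (hd : ringKrullDim A = d) (I : Ideal A)
    (h : ∀ P ∈ minimalPrimes A, ringKrullDim (A ⧸ P) = d → 1 ≤ ringKrullDim (A ⧸ (I ⊔ P))) :
    Subsingleton (LocCoh.H I d A) := by
  refine IsNoetherianRing.induction_on_isQuotientEquivQuotientPrime A (M := A) inferInstance
    (motive := fun N _ _ _ => Subsingleton (LocCoh.H I d N)) ?_ ?_ ?_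
  · intro N _ _ _ _
    refine GrothLib.LC.subsingleton_of_supportDim_lt d A I N ?_
    rw [Module.supportDim_eq_bot_of_subsingleton]
    exact WithBot.bot_lt_coe _
  · intro N _ _ _ P e
    refine @Equiv.subsingleton _ _
      ((localCohomology I d).mapIso e.toModuleIso).toLinearEquiv.toEquiv ?_
    rcases lt_or_eq_of_le ((ringKrullDim_quotient_le P.1).trans hd.le) with hlt | heq
    · exact GrothLib.LC.subsingleton_of_supportDim_lt d A I (A ⧸ P.1)
        (by rwa [Module.supportDim_quotient_eq_ringKrullDim])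
    · have := P.2
      have hloc : IsLocalRing (A ⧸ P.1) :=
        IsLocalRing.of_surjective' (Ideal.Quotient.mk P.1) Ideal.Quotient.mk_surjective
      have : IsAdicComplete (maximalIdeal (A ⧸ P.1)) (A ⧸ P.1) :=
        GrothLib.AdicExtra.isAdicComplete_localRing (R := A)
      refine (GrothLib.LC.subsingleton_map_iff I d (A ⧸ P.1)).1
        (subsingleton_top_of_domain (A ⧸ P.1) heq _ ?_)
      refine (h P.1 (mem_minimalPrimes_of_dim_eq hd.le P.1 heq) heq).trans (le_of_eq ?_)
      rw [sup_comm]
      exact (ringKrullDim_eq_of_ringEquiv (DoubleQuot.quotQuotEquivQuotSup P.1 I)).symm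
  · intro N₁ _ _ _ N₂ _ _ _ N₃ _ _ _ f g hf hg hfg h₁ h₃
    let S : ShortComplex (ModuleCat.{u} A) := ShortComplex.mk (ModuleCat.ofHom f) (ModuleCat.ofHom g)
      (ModuleCat.hom_ext hfg.linearMap_comp_eq_zero)
    have hS : S.ShortExact :=
      { exact := (ShortComplex.moduleCat_exact_iff _).2 fun x hx => (hfg x).1 hx
        mono_f := (ModuleCat.mono_iff_injective _).2 hf
        epi_g := (ModuleCat.epi_iff_surjective _).2 hg }
    exact GrothLib.LC.subsingleton₂ I hS d h₁ h₃

/-- **Hartshorne-Lichtenbaum vanishing**. -/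
theorem subsingleton_top (R : Type u) [CommRing R] [IsLocalRing R] [IsNoetherianRing R] (I : Ideal R) {d : ℕ}
    (hd : ringKrullDim R = d)
    (h : ∀ P ∈ minimalPrimes (AdicCompletion (maximalIdeal R) R),
      ringKrullDim (AdicCompletion (maximalIdeal R) R ⧸ P) = d →
      1 ≤ ringKrullDim (AdicCompletion (maximalIdeal R) R ⧸
        (I.map (algebraMap R (AdicCompletion (maximalIdeal R) R)) ⊔ P))) :
    Subsingleton (LocCoh.H I d R) := by
  let A := AdicCompletion (maximalIdeal R) R
  have : IsAdicComplete (maximalIdeal A) A := by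
    rw [AdicCompletion.maximalIdeal_eq_map]
    exact AdicCompletion.isAdicComplete_self _ (maximalIdeal R).fg_of_isNoetherianRing
  have hdA : ringKrullDim A = d := GrothLib.AdicExtra.ringKrullDim_adicCompletion.trans hd
  have h0 := subsingleton_top_of_complete A hdA (I.map (algebraMap R A)) h
  have : Module.FaithfullyFlat R A := Module.FaithfullyFlat.of_flat_of_isLocalHom
  obtain ⟨e⟩ := GrothLib.LC.nonempty_baseChange_equiv (R' := A) I d R
  have h1 : Subsingleton ((localCohomology (I.map (algebraMap R A)) d).obj (ModuleCat.of A (A ⊗[R] R))) :=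
    ((localCohomology (I.map (algebraMap R A)) d).mapIso
      (AlgebraTensorModule.rid R A A).toModuleIso).toLinearEquiv.toEquiv.subsingleton_congr.2 h0
  have h2 : Subsingleton (A ⊗[R] (localCohomology I d).obj (ModuleCat.of R R)) := e.toEquiv.subsingleton_congr.2 h1
  exact (Module.FaithfullyFlat.subsingleton_tensorProduct_iff_right R A).1 h2

end GrothLib.HLVT
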