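import Groth.Agent.Lib.LC.Artinian
import Mathlib.RingTheory.Filtration
import Mathlib.RingTheory.AdicCompletion.Basic
import Mathlib.RingTheory.Ideal.Height
import Mathlib.RingTheory.Localization.AtPrime.Basic

/-!
# Chevalley's lemma and symbolic powers of a one-dimensional prime
-/

universe u

open IsLocalRing

namespace GrothLib.HLVT

variable {R : Type u} [CommRing R] [IsNoetherianRing R] [IsLocalRing R]

local notation "𝔪" => maximalIdeal R

theorem exists_stable {I : ℕ → Ideal R} (hI : Antitone I) (k : ℕ) :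
    ∃ N, ∀ n, N ≤ n → I n ⊔ 𝔪 ^ k = I N ⊔ 𝔪 ^ k := by
  have hart : IsArtinian R (R ⧸ 𝔪 ^ k) := (GrothLib.LC.finite_iff_isArtinian_of_pow_smul 𝔪 (N := k)
    (fun a ha x => by
      obtain ⟨x, rfl⟩ := Ideal.Quotient.mk_surjective x
      exact Ideal.Quotient.eq_zero_iff_mem.2 (Ideal.mul_mem_right x _ ha))).1 inferInstance
  obtain ⟨N, hN⟩ := IsArtinian.monotone_stabilizes (R := R) (M := R ⧸ 𝔪 ^ k)
    ⟨fun n => OrderDual.toDual (Submodule.map (Submodule.mkQ (𝔪 ^ k)) (I n)),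
      fun _ _ h => Submodule.map_mono (hI h)⟩
  refine ⟨N, fun n hn => ?_⟩
  have h := congrArg (Submodule.comap (Submodule.mkQ (𝔪 ^ k))) (OrderDual.toDual.injective (hN n hn))
  rw [Submodule.comap_map_mkQ, Submodule.comap_map_mkQ, sup_comm, sup_comm (𝔪 ^ k)] at h
  exact h.symm

/-- **Chevalley's lemma**. -/
theorem exists_le_pow_of_iInf_eq_bot [IsAdicComplete 𝔪 R] {I : ℕ → Ideal R} (hI : Antitone I)
    (h0 : ⨅ n, I n = ⊥) (k : ℕ) : ∃ m, I m ≤ 𝔪 ^ k := by
  by_contra hk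
  simp only [not_exists] at hk
  choose N hN using exists_stable hI
  let W : ℕ → Ideal R := fun j => I (N j) ⊔ 𝔪 ^ j
  have hW : ∀ j n, W j ≤ I n ⊔ 𝔪 ^ j := fun j n => by
    show I (N j) ⊔ 𝔪 ^ j ≤ I n ⊔ 𝔪 ^ j
    rcases le_total (N j) n with h | h
    · rw [hN j n h]
    · exact sup_le_sup_right (hI h) _
  have step : ∀ j, ∀ x ∈ W j, ∃ y ∈ W (j + 1), y - x ∈ 𝔪 ^ j := by
    intro j x hx
    obtain ⟨a, ha, b, hb, rfl⟩ := Submodule.mem_sup.1 (hW j (max (N j) (N (j + 1))) hx)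
    refine ⟨a, Submodule.mem_sup_left (hI (le_max_right _ _) ha), ?_⟩
    rw [sub_add_cancel_left]
    exact neg_mem hb
  obtain ⟨x₀, hx₀, hx₀'⟩ : ∃ x ∈ W k, x ∉ 𝔪 ^ k :=
    SetLike.not_le_iff_exists.1 fun h => hk (N k) (le_sup_left.trans h)
  let g : ∀ n, {x // x ∈ W (k + n)} := fun n =>
    Nat.rec (motive := fun n => {x // x ∈ W (k + n)}) ⟨x₀, hx₀⟩
      (fun n x => ⟨(step (k + n) x.1 x.2).choose, (step (k + n) x.1 x.2).choose_spec.1⟩) n
  have hg : ∀ n, (g (n + 1)).1 - (g n).1 ∈ 𝔪 ^ (k + n) := fun n =>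
    (step (k + n) (g n).1 (g n).2).choose_spec.2
  have hgle : ∀ m n, m ≤ n → (g n).1 - (g m).1 ∈ 𝔪 ^ (k + m) := by
    intro m n hmn
    induction n, hmn using Nat.le_induction with
    | base => rw [sub_self]; exact zero_mem _
    | succ n hmn ih =>
      rw [← sub_add_sub_cancel (g (n + 1)).1 (g n).1 (g m).1]
      exact add_mem (Ideal.pow_le_pow_right (by omega) (hg n)) ih
  obtain ⟨L, hL⟩ := IsPrecomplete.prec (I := maximalIdeal R) (inferInstance : IsPrecomplete (maximalIdeal R) R) (f := fun n => (g n).1)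
    fun {m n} hmn => by
      rw [SModEq.sub_mem, smul_eq_mul, Ideal.mul_top, ← neg_sub]
      exact neg_mem (Ideal.pow_le_pow_right (by omega) (hgle m n hmn))
  have hL' : ∀ n, (g n).1 - L ∈ 𝔪 ^ n := fun n => by
    have h := hL n
    rwa [SModEq.sub_mem, smul_eq_mul, Ideal.mul_top] at h
  have hmem : ∀ m, L ∈ I m := by
    intro m
    rw [← Submodule.Quotient.mk_eq_zero, ← Submodule.mem_bot R,
      ← Ideal.iInf_pow_smul_eq_bot_of_isLocalRing (M := R ⧸ I m) 𝔪 (maximalIdeal.isMaximal R).ne_top,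
      Submodule.mem_iInf]
    intro n
    have h : L ∈ I m ⊔ 𝔪 ^ n := by
      rw [← sub_sub_cancel (g n).1 L]
      refine sub_mem ?_ (Submodule.mem_sup_right (hL' n))
      exact (sup_le_sup_left (Ideal.pow_le_pow_right (show n ≤ k + n by omega)) (I m) :
        I m ⊔ 𝔪 ^ (k + n) ≤ I m ⊔ 𝔪 ^ n) (hW (k + n) m (g n).2)
    obtain ⟨a, ha, b, hb, rfl⟩ := Submodule.mem_sup.1 h
    rw [Submodule.Quotient.mk_add, (Submodule.Quotient.mk_eq_zero _).2 ha, zero_add,
      show Submodule.Quotient.mk b = b • (Submodule.Quotient.mk 1 : R ⧸ I m) by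
        rw [← Submodule.Quotient.mk_smul, smul_eq_mul, mul_one]]
    exact Submodule.smul_mem_smul hb Submodule.mem_top
  have hL0 : L = 0 := (Submodule.mem_bot R).1 (h0 ▸ Submodule.mem_iInf _ |>.2 hmem)
  have h1 := hL' k
  rw [hL0, sub_zero] at h1
  refine hx₀' ?_
  have h2 : (g k).1 - (g 0).1 ∈ 𝔪 ^ k := Ideal.pow_le_pow_right (by omega) (hgle 0 k (Nat.zero_le _))
  have h3 := sub_mem h1 h2
  rw [sub_sub_cancel] at h3
  exact h3

omit [IsNoetherianRing R] in
theorem eq_maximalIdeal_of_lt {p q : Ideal R} [p.IsPrime] [q.IsPrime] (hp : ringKrullDim (R ⧸ p) = 1)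
    (h : p < q) : q = 𝔪 := by
  by_contra hne
  have hqm : q < 𝔪 := lt_of_le_of_ne (le_maximalIdeal (Ideal.IsPrime.ne_top ‹_›)) hne
  have hlt : (2 : WithBot ℕ∞) ≤ ringKrullDim (R ⧸ p) := by
    rw [ringKrullDim_quotient]
    let a : PrimeSpectrum.zeroLocus (R := R) (p : Set R) := ⟨⟨p, ‹_›⟩, le_refl (p : Set R)⟩
    let b : PrimeSpectrum.zeroLocus (R := R) (p : Set R) := ⟨⟨q, ‹_›⟩, h.le⟩
    let c : PrimeSpectrum.zeroLocus (R := R) (p : Set R) := ⟨⟨𝔪, inferInstance⟩, h.le.trans hqm.le⟩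
    have hmono : StrictMono ![a, b, c] := Fin.strictMono_iff_lt_succ.2 fun i => by
      fin_cases i
      · exact h
      · exact hqm
    exact Order.LTSeries.length_le_krullDim (LTSeries.mk 2 _ hmono)
  rw [hp] at hlt
  exact absurd hlt (by decide)

/-- Symbolic powers of a one-dimensional prime of a complete local domain are small. -/
theorem exists_symbolicPower_le_pow [IsDomain R] [IsAdicComplete 𝔪 R] (p : Ideal R) [p.IsPrime]
    (hp : ringKrullDim (R ⧸ p) = 1) (n : ℕ) :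
    ∃ m : ℕ, n ≤ m ∧ ((p.map (algebraMap R (Localization.AtPrime p))) ^ m).comap
      (algebraMap R (Localization.AtPrime p)) ≤ p ^ n := by
  let A := Localization.AtPrime p
  let S : ℕ → Ideal R := fun m => ((p.map (algebraMap R A)) ^ m).comap (algebraMap R A)
  have hanti : Antitone S := fun a b h => Ideal.comap_mono (Ideal.pow_le_pow_right h)
  have : IsNoetherianRing A := IsLocalization.isNoetherianRing p.primeCompl _ inferInstance
  have hinf : ⨅ m, S m = ⊥ := by
    refine eq_bot_iff.2 fun x hx => ?_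
    rw [Submodule.mem_iInf] at hx
    have h1 : algebraMap R A x ∈ ⨅ m, (p.map (algebraMap R A)) ^ m := Submodule.mem_iInf _ |>.2 hx
    rw [Localization.AtPrime.map_eq_maximalIdeal,
      Ideal.iInf_pow_eq_bot_of_isLocalRing _ (maximalIdeal.isMaximal A).ne_top, Submodule.mem_bot] at h1
    exact (Submodule.mem_bot R).2 ((map_eq_zero_iff _ (IsLocalization.injective A
      (Ideal.primeCompl_le_nonZeroDivisors p))).1 h1)
  have hpn : ∀ z ∈ S n, ∃ s ∉ p, s * z ∈ p ^ n := by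
    intro z hz
    rw [Ideal.mem_comap, ← Ideal.map_pow] at hz
    obtain ⟨s, hs, h⟩ := (IsLocalization.algebraMap_mem_map_algebraMap_iff p.primeCompl A (p ^ n) z).1 hz
    exact ⟨s, hs, h⟩
  -- a power of `𝔪` multiplies the symbolic power into the power
  obtain ⟨t, ht⟩ := (IsNoetherian.noetherian (S n) : (S n).FG)
  have hcol : ∀ z ∈ t, ∃ c, 𝔪 ^ c * Ideal.span {z} ≤ p ^ n := by
    intro z hz
    obtain ⟨s, hs, hsz⟩ := hpn z (ht ▸ Submodule.subset_span hz)
    let J : Ideal R := Submodule.colon (p ^ n) {z}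
    have hJ : 𝔪 ≤ J.radical := by
      rw [Ideal.radical_eq_sInf]
      refine le_sInf fun Q hQ => ?_
      have := hQ.2
      have hpQ : p ≤ Q := fun x hx => by
        refine this.mem_of_pow_mem n (hQ.1 ?_)
        rw [Submodule.mem_colon_singleton]
        exact Ideal.mul_mem_right z _ (Ideal.pow_mem_pow hx n)
      rcases eq_or_lt_of_le hpQ with rfl | hlt
      · exact absurd (hQ.1 (Submodule.mem_colon_singleton.2 hsz)) hs
      · exact (eq_maximalIdeal_of_lt hp hlt).ge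
    obtain ⟨c, hc⟩ := Ideal.exists_pow_le_of_le_radical_of_fg hJ (IsNoetherian.noetherian _)
    refine ⟨c, Ideal.mul_le.2 fun a ha b hb => ?_⟩
    obtain ⟨r, rfl⟩ := Ideal.mem_span_singleton'.1 hb
    rw [mul_left_comm]
    exact Ideal.mul_mem_left _ r (Submodule.mem_colon_singleton.1 (hc ha))
  choose! c hc using hcol
  have hC : 𝔪 ^ (t.sup c) * S n ≤ p ^ n := by
    rw [← ht, Ideal.mul_le]
    intro a ha b hb
    induction hb using Submodule.span_induction with
    | mem z hz => exact hc z hz (Ideal.mul_mem_mul (Ideal.pow_le_pow_right (Finset.le_sup (f := c) hz) ha)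
        (Ideal.mem_span_singleton_self z))
    | zero => rw [mul_zero]; exact zero_mem _
    | add u v _ _ hu hv => rw [mul_add]; exact add_mem hu hv
    | smul r u _ hu => rw [smul_eq_mul, mul_left_comm]; exact Ideal.mul_mem_left _ r hu
  obtain ⟨k₀, hk₀⟩ := Ideal.exists_pow_inf_eq_pow_smul 𝔪 (S n : Submodule R R)
  obtain ⟨m, hm⟩ := exists_le_pow_of_iInf_eq_bot hanti hinf (k₀ + t.sup c)
  refine ⟨max n m, le_max_left _ _, fun x hx => hC ?_⟩
  have h1 : x ∈ 𝔪 ^ (k₀ + t.sup c) • (⊤ : Submodule R R) ⊓ S n := by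
    rw [smul_eq_mul, Ideal.mul_top]
    exact ⟨hm (hanti (le_max_right n m) hx), hanti (le_max_left n m) hx⟩
  rw [hk₀ _ (by omega), Nat.add_sub_cancel_left] at h1
  rw [← smul_eq_mul]
  exact (Submodule.smul_mono le_rfl inf_le_right : 𝔪 ^ t.sup c • _ ≤ 𝔪 ^ t.sup c • S n) h1

end GrothLib.HLVT
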