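import Groth.Agent.Lib.HLVT.Chevalley
import Groth.Agent.Lib.LC.TopNonzero
import Groth.Agent.Lib.LC.BaseChange
import Groth.Agent.Lib.Gor.Quotient
import Groth.Agent.Lib.CMFree.Regular
import Groth.Agent.S11642
import Groth.Agent.S0342
import Mathlib.RingTheory.RegularLocalRing.Polynomial
import Groth.Agent.Lib.Serre.Ring

/-!
# Top local cohomology at a one-dimensional prime of a complete hypersurface domain
-/

universe u

open CategoryTheory IsLocalRing Abelian Polynomial

namespace GrothLib.HLVT

variable {B : Type u} [CommRing B]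

theorem subsingleton_ext_quotient_torsion [LocCoh.IsGorensteinLocalRing B] {n : ℕ} (hn : ringKrullDim B = n)
    (X : Type u) [AddCommGroup X] [Module B X] [Module.Finite B X] :
    Subsingleton (Ext (ModuleCat.of B (X ⧸ DRing.torsionSub (maximalIdeal B) X)) (ModuleCat.of B B) n) := by
  rcases subsingleton_or_nontrivial (X ⧸ DRing.torsionSub (maximalIdeal B) X) with h | h
  · refine subsingleton_of_forall_eq 0 fun e => ?_
    have h0 : 𝟙 (ModuleCat.of B (X ⧸ DRing.torsionSub (maximalIdeal B) X)) = 0 :=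
      ModuleCat.hom_ext (LinearMap.ext fun z => h.elim _ _)
    rw [← Ext.mk₀_id_comp e, h0, Ext.mk₀_zero, Ext.zero_comp]
  · refine (Groth.Agent.S11642.result B n hn _).1 ?_
    rw [← Order.one_le_iff_pos, LocCoh.depth,
      GrothLib.Depth.one_le_idealDepth_iff (maximalIdeal.isMaximal B).ne_top]
    exact GrothLib.LC.exists_mem_isSMulRegular
      (GrothLib.LC.torsionSub_quotient_eq_bot (M := X) _ (IsNoetherian.noetherian _))

/-- `H^n_p(B) = 0` for a one-dimensional prime of a complete Gorenstein domain of dimension `n`. -/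
theorem subsingleton_top_of_gorenstein [IsDomain B] [LocCoh.IsGorensteinLocalRing B]
    [IsAdicComplete (maximalIdeal B) B] {n : ℕ} (hn : ringKrullDim B = n) (p : Ideal B) [p.IsPrime]
    (hp : ringKrullDim (B ⧸ p) = 1) : Subsingleton (LocCoh.H p n B) := by
  refine subsingleton_of_forall_eq 0 fun x => ?_
  obtain ⟨t, e, rfl⟩ := GrothLib.LC.exists_toH p x
  obtain ⟨m, htm, hm⟩ := exists_symbolicPower_le_pow p hp t
  rw [GrothLib.LC.toH_eq_zero_iff]
  refine ⟨m, htm, ?_⟩
  obtain ⟨s, hsm, hsp⟩ : ∃ s ∈ maximalIdeal B, s ∉ p := SetLike.not_le_iff_exists.1 fun hle => by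
    have h := eq_maximalIdeal_of_lt (R := B) (p := p) (q := maximalIdeal B) hp
    obtain rfl := le_antisymm (le_maximalIdeal (Ideal.IsPrime.ne_top ‹_›)) hle
    have h0 : ringKrullDim (B ⧸ maximalIdeal B) = 0 :=
      ringKrullDim_eq_zero_of_isField (Ideal.Quotient.maximal_ideal_iff_isField_quotient _ |>.1 inferInstance)
    rw [h0] at hp
    exact zero_ne_one hp
  let T : Submodule B (B ⧸ p ^ m) := DRing.torsionSub (maximalIdeal B) (B ⧸ p ^ m)
  let f : (B ⧸ p ^ m) →ₗ[B] (B ⧸ p ^ t) := Submodule.factor (Ideal.pow_le_pow_right htm)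
  have hker : T ≤ LinearMap.ker f := by
    rintro z ⟨k, hk⟩
    obtain ⟨a, rfl⟩ := Ideal.Quotient.mk_surjective z
    have h0 : s ^ k * a ∈ p ^ m := Ideal.Quotient.eq_zero_iff_mem.1 (hk _ (Ideal.pow_mem_pow hsm k))
    refine (Ideal.Quotient.eq_zero_iff_mem (I := p ^ t)).2 (hm ?_)
    rw [Ideal.mem_comap, ← Ideal.map_pow,
      IsLocalization.algebraMap_mem_map_algebraMap_iff p.primeCompl (Localization.AtPrime p)]
    exact ⟨s ^ k, fun h => hsp (Ideal.IsPrime.mem_of_pow_mem ‹_› k h), h0⟩
  have hfac : GrothLib.LC.quotMap p htm =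
      (ModuleCat.ofHom T.mkQ : GrothLib.LC.quotPow p m ⟶ ModuleCat.of B ((B ⧸ p ^ m) ⧸ T)) ≫
        ModuleCat.ofHom (T.liftQ f hker) := by
    refine ModuleCat.hom_ext (LinearMap.ext fun z => ?_)
    obtain ⟨a, rfl⟩ := Ideal.Quotient.mk_surjective z
    rfl
  rw [hfac, ← Ext.mk₀_comp_mk₀, Ext.comp_assoc_of_second_deg_zero,
    @Subsingleton.elim _ (subsingleton_ext_quotient_torsion hn (B ⧸ p ^ m)) ((Ext.mk₀ _).comp e (zero_add n)) 0,
    Ext.comp_zero]

/-- A local hypersurface over a regular domain, in terms of a presentation. -/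
theorem subsingleton_top_hypersurface [IsDomain B] [IsLocalRing B] [IsNoetherianRing B]
    [IsAdicComplete (maximalIdeal B) B] (S : Type u) [CommRing S] [IsRegularRing S] [IsDomain S]
    (π : S →+* B) (hπ : Function.Surjective π) {f : S} (hf : f ≠ 0) (hker : RingHom.ker π = Ideal.span {f})
    {n : ℕ} (hn : ringKrullDim B = n) (p : Ideal B) [p.IsPrime] (hp : ringKrullDim (B ⧸ p) = 1) :
    Subsingleton (LocCoh.H p n B) := by
  let M : Ideal S := (maximalIdeal B).comap π
  let A := Localization.AtPrime M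
  have hu : ∀ y : M.primeCompl, IsUnit (π y) := fun y => by
    by_contra h
    exact y.2 ((mem_maximalIdeal _).2 h)
  let ψ : A →+* B := IsLocalization.lift hu
  have hψ : ∀ s, ψ (algebraMap S A s) = π s := fun s => IsLocalization.lift_eq hu s
  have hψs : Function.Surjective ψ := fun b => by
    obtain ⟨s, rfl⟩ := hπ b
    exact ⟨_, hψ s⟩
  have hψk : RingHom.ker ψ = Ideal.span {algebraMap S A f} := by
    refine le_antisymm (fun a ha => ?_) ((Ideal.span_singleton_le_iff_mem _).2 ?_)
    · obtain ⟨⟨s, y⟩, rfl⟩ := IsLocalization.mk'_surjective M.primeCompl a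
      have h0 : π s = 0 := by
        rw [← hψ, ← IsLocalization.mk'_spec A s y, map_mul, RingHom.mem_ker.1 ha, zero_mul]
      obtain ⟨c, rfl⟩ := Ideal.mem_span_singleton.1 (hker ▸ RingHom.mem_ker.2 h0 : s ∈ Ideal.span {f})
      exact Ideal.mem_span_singleton.2 ⟨IsLocalization.mk' A c y, by
        rw [IsLocalization.mul_mk'_eq_mk'_of_mul]⟩
    · rw [RingHom.mem_ker, hψ]
      exact RingHom.mem_ker.1 (hker.ge (Ideal.mem_span_singleton_self f))
  have := IsRegularRing.isRegularLocalRing_localization M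
  have := Groth.Agent.S0342.result A
  have : IsDomain A := GrothLib.CMFree.isDomain_of_isRegularLocalRing A
  have hfA : algebraMap S A f ≠ 0 := fun h =>
    hf ((map_eq_zero_iff _ (IsLocalization.injective A (Ideal.primeCompl_le_nonZeroDivisors M))).1 h)
  have hfm : algebraMap S A f ∈ maximalIdeal A :=
    (IsLocalization.AtPrime.to_map_mem_maximal_iff A M f _).2 (by
      show π f ∈ maximalIdeal B
      rw [RingHom.mem_ker.1 (hker.ge (Ideal.mem_span_singleton_self f))]
      exact zero_mem _)
  let G := A ⧸ Ideal.span {algebraMap S A f}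
  have hG : LocCoh.IsGorensteinLocalRing G :=
    GrothLib.Gor.isGorensteinLocalRing_quotient hfm (IsSMulRegular.of_right_eq_zero_of_smul fun z hz =>
      (mul_eq_zero.1 hz).resolve_left hfA)
  let e : G ≃+* B := (Ideal.quotEquivOfEq hψk.symm).trans (RingHom.quotientKerEquivOfSurjective hψs)
  have : IsDomain G := e.toMulEquiv.isDomain
  have : IsAdicComplete (maximalIdeal G) G := by
    rw [← IsAdicComplete.congr_ringEquiv _ e,
      show (maximalIdeal G).map e = maximalIdeal B from map_maximalIdeal_of_surjective (e : G →+* B) e.surjective]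
    infer_instance
  let _ : Algebra G B := (e : G →+* B).toAlgebra
  let q : Ideal G := p.comap (algebraMap G B)
  have hq : q.map (algebraMap G B) = p := Ideal.map_comap_of_surjective _ e.surjective p
  have hdim : ringKrullDim G = n := (ringKrullDim_eq_of_ringEquiv e).trans hn
  have hqdim : ringKrullDim (G ⧸ q) = 1 :=
    (ringKrullDim_eq_of_ringEquiv (Ideal.quotientEquiv q p e hq.symm)).trans hp
  have h0 := subsingleton_top_of_gorenstein hdim q hqdim
  rw [← hq]
  refine (GrothLib.LC.subsingleton_map_iff (R' := B) q n B).2 ?_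
  exact ((localCohomology q n).mapIso
    (LinearEquiv.ofBijective (Algebra.linearMap G B) e.bijective).toModuleIso).toLinearEquiv.toEquiv.symm.subsingleton

end GrothLib.HLVT
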