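import Groth.Agent.Lib.HLVT.DualTop
import Groth.Agent.Lib.LC.TopNonzero
import Groth.Agent.Lib.LC.Compare
import Groth.Agent.Lib.LC.FlatBC
import Groth.Agent.Lib.CanonMod.Duality
import Groth.Agent.Lib.InjMod.MatlisCompl
import Groth.Agent.Lib.CMBasics.DimIneq
import Groth.Agent.Lib.AdicExtra.Completion
import Groth.Agent.S0317
import Groth.Agent.S5158

/-!
# Cofiniteness of the top local cohomology module
-/

set_option autoImplicit false
set_option linter.style.haveILetI false
universe u

open CategoryTheory IsLocalRing TensorProduct Abelian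

namespace GrothLib.HLVT

/-- Over a complete local ring the only prime over `J + Ann H^n_J(N)` is the maximal ideal. -/
theorem le_radical_sup_annihilator_top (A : Type u) [CommRing A] [IsNoetherianRing A] [IsLocalRing A]
    [IsAdicComplete (maximalIdeal A) A] (J : Ideal A) (N : Type u) [AddCommGroup N] [Module A N]
    [Module.Finite A N] (n : ℕ) (hn : Module.supportDim A N ≤ n) :
    maximalIdeal A ≤ (J ⊔ Module.annihilator A (LocCoh.H J n N)).radical := by
  rcases hn.lt_or_eq with h | h
  · have := GrothLib.LC.subsingleton_of_supportDim_lt n A J N h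
    rw [Module.annihilator_eq_top_iff.2 this, sup_top_eq, Ideal.radical_top]
    exact le_top
  obtain ⟨E, _, _, f, hf⟩ := GrothLib.InjMod.exists_injective_hull (R := A) (ResidueField A)
  haveI := GrothLib.LC.isArtinian_H_of_supportDim_le J n N hn
  obtain ⟨hfin, -⟩ := Groth.Agent.S0317.result A E f hf (LocCoh.H J n N)
  haveI := hfin
  rw [GrothLib.Matlis.annihilator_dual hf, Ideal.radical_eq_sInf]
  refine le_sInf fun P hP => ?_
  haveI := hP.2
  obtain ⟨p, hp, hpP⟩ := Ideal.exists_minimalPrimes_le (le_sup_right.trans hP.1)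
  have hass := Module.associatedPrimes.minimalPrimes_annihilator_subset_associatedPrimes A _ hp
  rw [associatedPrimes_dual_top hf J h] at hass
  calc maximalIdeal A = (J ⊔ p).radical := hass.2.2.2.symm
    _ ≤ P := (Ideal.IsPrime.radical_le_iff hP.2).2 (sup_le (le_sup_left.trans hP.1) hpP)

variable {R : Type u} [CommRing R] [IsNoetherianRing R] [IsLocalRing R]

/-- An Artinian module is torsion for the powers of the maximal ideal. -/
theorem isPowerTorsion_of_isArtinian (H : Type u) [AddCommGroup H] [Module R H] [IsArtinian R H] :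
    LocCoh.IsPowerTorsion (maximalIdeal R) H := by
  intro h
  let S := Submodule.span R ({h} : Set H)
  have hfg : S.FG := Submodule.fg_span_singleton h
  obtain ⟨N, hN⟩ := IsArtinian.monotone_stabilizes (R := R) (M := H)
    ⟨fun j => OrderDual.toDual ((maximalIdeal R) ^ j • S), fun a b hab =>
      OrderDual.toDual_le_toDual.2 (Submodule.smul_mono_left (Ideal.pow_le_pow_right hab))⟩
  have h1 : (maximalIdeal R) ^ N • S = (maximalIdeal R) ^ (N + 1) • S :=
    OrderDual.toDual.injective (hN (N + 1) (Nat.le_succ N))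
  have h2 : (maximalIdeal R) ^ N • S = ⊥ := by
    refine Submodule.eq_bot_of_le_smul_of_le_jacobson_bot (maximalIdeal R) _
      (Submodule.FG.smul (IsNoetherian.noetherian _) hfg) ?_ (IsLocalRing.maximalIdeal_le_jacobson _)
    rw [← Submodule.mul_smul, ← pow_succ', ← h1]
  exact ⟨N, fun a ha => (Submodule.mem_bot R).1 (h2 ▸ Submodule.smul_mem_smul ha
    (Submodule.mem_span_singleton_self h))⟩

omit [IsLocalRing R] in
theorem exists_sum_of_mem_map {A : Type u} [CommRing A] [Algebra R A] (I : Ideal R) :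
    ∀ y ∈ I.map (algebraMap R A), ∃ (s : Finset R) (φ : R → A),
      (∀ a ∈ s, a ∈ I) ∧ y = ∑ a ∈ s, algebraMap R A a * φ a := by
  classical
  obtain ⟨s, hs⟩ := (IsNoetherian.noetherian I : I.FG)
  intro y hy
  rw [← hs, Ideal.map_span] at hy
  have : (algebraMap R A) '' (s : Set R) = Set.range (fun a : s => algebraMap R A a) := by
    rw [Set.image_eq_range]; rfl
  rw [this, Ideal.mem_span_range_iff_exists_fun] at hy
  obtain ⟨c, hc⟩ := hy
  refine ⟨s, fun a => if h : a ∈ s then c ⟨a, h⟩ else 0, fun a ha => hs ▸ Ideal.subset_span ha, ?_⟩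
  rw [← hc, ← Finset.sum_attach s]
  refine Finset.sum_congr rfl fun a _ => ?_
  simp only [dif_pos a.2]
  rw [mul_comm]

/-- A power of each element of the maximal ideal acts on `H^n_I(M)` as an element of `I • End`. -/
theorem exists_pow_smul_eq_sum (I : Ideal R) (M : Type u) [AddCommGroup M] [Module R M] [Module.Finite R M]
    (n : ℕ) (hn : Module.supportDim R M ≤ n) (x : R) (hx : x ∈ maximalIdeal R) :
    ∃ (k : ℕ) (s : Finset R) (φ : R → (LocCoh.H I n M →ₗ[R] LocCoh.H I n M)),
      (∀ a ∈ s, a ∈ I) ∧ ∀ h : LocCoh.H I n M, x ^ k • h = ∑ a ∈ s, a • φ a h := by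
  let A := AdicCompletion (maximalIdeal R) R
  haveI : IsAdicComplete (maximalIdeal A) A := by
    rw [AdicCompletion.maximalIdeal_eq_map]
    exact AdicCompletion.isAdicComplete_self _ (maximalIdeal R).fg_of_isNoetherianRing
  haveI : Module.FaithfullyFlat R A := Module.FaithfullyFlat.of_flat_of_isLocalHom
  have hdim : Module.supportDim A (A ⊗[R] M) ≤ n := by
    refine (GrothLib.CMBasics.supportDim_tensor_le R A M A).trans ?_
    refine (add_le_add hn (le_of_eq ?_)).trans_eq (add_zero _)
    rw [← AdicCompletion.maximalIdeal_eq_map, show (maximalIdeal A • ⊤ : Submodule A A) = maximalIdeal A from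
      Ideal.mul_top _, Module.supportDim_eq_ringKrullDim_quotient_annihilator, Ideal.annihilator_quotient]
    exact ringKrullDim_eq_zero_of_field (ResidueField A)
  haveI := GrothLib.LC.isArtinian_H_of_supportDim_le I n M hn
  let e : LocCoh.H I n M ≃ₗ[R] A ⊗[R] LocCoh.H I n M :=
    GrothLib.Matlis.tensorComplEquiv (isPowerTorsion_of_isArtinian _)
  obtain ⟨ψ⟩ := GrothLib.LC.nonempty_baseChange_equiv (R' := A) I n M
  have hrad := le_radical_sup_annihilator_top A (I.map (algebraMap R A)) (A ⊗[R] M) n hdim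
  have hxA : algebraMap R A x ∈ maximalIdeal A := by
    rw [AdicCompletion.maximalIdeal_eq_map]
    exact Ideal.mem_map_of_mem _ hx
  obtain ⟨k, hk⟩ := hrad hxA
  obtain ⟨y, hy, c, hc, hyc⟩ := Submodule.mem_sup.1 hk
  have hc0 : ∀ z : A ⊗[R] LocCoh.H I n M, c • z = 0 := fun z => by
    refine ψ.injective ?_
    rw [map_smul, map_zero]
    exact Module.mem_annihilator.1 hc _
  obtain ⟨s, φ, hs, rfl⟩ := exists_sum_of_mem_map I y hy
  refine ⟨k, s, fun a => e.symm.toLinearMap ∘ₗ
    (DistribSMul.toLinearMap R (A ⊗[R] LocCoh.H I n M) (φ a)) ∘ₗ e.toLinearMap, hs, fun h => ?_⟩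
  refine e.injective ?_
  rw [map_smul, map_sum]
  simp only [LinearMap.comp_apply, map_smul, LinearEquiv.coe_coe, LinearEquiv.apply_symm_apply,
    DistribSMul.toLinearMap_apply]
  rw [← algebraMap_smul A (x ^ k) (e h), map_pow, ← hyc, add_smul, hc0, add_zero, Finset.sum_smul]
  exact Finset.sum_congr rfl fun a _ => by rw [mul_smul, algebraMap_smul]

/-- `Ext^i(F, H)` is Artinian for `F` finite and `H` Artinian. -/
theorem isArtinian_ext (H : ModuleCat.{u} R) [IsArtinian R H] : ∀ (i : ℕ) (F : ModuleCat.{u} R)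
    [Module.Finite R F], IsArtinian R (Ext F H i) := by
  intro i
  induction i with
  | zero =>
    intro F _
    obtain ⟨r, g, hg⟩ := Module.Finite.exists_fin' R F
    haveI : IsArtinian R ((Fin r → R) →ₗ[R] H) := isArtinian_of_linearEquiv (Module.piEquiv (Fin r) R H)
    haveI : IsArtinian R (F →ₗ[R] H) := isArtinian_of_injective (LinearMap.lcomp R H g)
      (LinearMap.lcomp_injective_of_surjective _ hg)
    exact isArtinian_of_linearEquiv ((Ext.linearEquiv₀ (R := R)).trans ModuleCat.homLinearEquiv).symm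
  | succ i ih =>
    intro F _
    obtain ⟨r, S, hS, -, hf1, -, rfl, hproj⟩ := GrothLib.CanonMod.exists_pres F
    haveI := hf1; haveI := hproj
    haveI := ih S.X₁
    exact isArtinian_of_surjective _ (GrothLib.CanonMod.extDelta hS H i (i + 1) (by omega)) fun x =>
      Ext.contravariant_sequence_exact₃ hS H x
        (Subsingleton.elim (h := Ext.subsingleton_of_projective S.X₂ H i) _ _) (by omega)

/-- `Ext^i(R ⧸ I, H^n_I(M))` has finite length for `dim Supp M ≤ n`. -/
theorem isFiniteLength_ext_top (I : Ideal R) (M : Type u) [AddCommGroup M] [Module R M] [Module.Finite R M]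
    (n : ℕ) (hn : Module.supportDim R M ≤ n) (i : ℕ) :
    IsFiniteLength R (Ext (ModuleCat.of R (R ⧸ I)) (ModuleCat.of R (LocCoh.H I n M)) i) := by
  classical
  haveI := GrothLib.LC.isArtinian_H_of_supportDim_le I n M hn
  haveI := isArtinian_ext (ModuleCat.of R (LocCoh.H I n M)) i (ModuleCat.of R (R ⧸ I))
  let X := Ext (ModuleCat.of R (R ⧸ I)) (ModuleCat.of R (LocCoh.H I n M)) i
  have hI : ∀ a ∈ I, ∀ e : X, a • e = 0 := fun a ha e => by
    rw [← Ext.mk₀_id_comp e, ← Ext.smul_comp, ← Ext.mk₀_smul,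
      show a • 𝟙 (ModuleCat.of R (R ⧸ I)) = 0 from ModuleCat.hom_ext (LinearMap.ext fun z => by
        obtain ⟨z, rfl⟩ := Submodule.Quotient.mk_surjective _ z
        show a • Submodule.Quotient.mk z = (0 : R ⧸ I)
        rw [← Submodule.Quotient.mk_smul, Submodule.Quotient.mk_eq_zero]
        exact Ideal.mul_mem_right z _ ha), Ext.mk₀_zero, Ext.zero_comp]
  have hx : ∀ x ∈ maximalIdeal R, x ∈ (Module.annihilator R X).radical := by
    intro x hx
    obtain ⟨k, s, φ, hs, hφ⟩ := exists_pow_smul_eq_sum I M n hn x hx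
    refine ⟨k, Module.mem_annihilator.2 fun e => ?_⟩
    let ψ : R → (ModuleCat.of R (LocCoh.H I n M) ⟶ ModuleCat.of R (LocCoh.H I n M)) :=
      fun a => ModuleCat.ofHom (φ a)
    have hid : (x ^ k) • 𝟙 (ModuleCat.of R (LocCoh.H I n M)) = ∑ a ∈ s, a • ψ a :=
      ModuleCat.hom_ext (LinearMap.ext fun h => by simpa [ψ, ModuleCat.hom_sum] using hφ h)
    have key : ∀ t ⊆ s, e.comp (Ext.mk₀ (∑ a ∈ t, a • ψ a)) (add_zero i) = 0 := by
      intro t
      induction t using Finset.induction_on with
      | empty => intro _; rw [Finset.sum_empty, Ext.mk₀_zero, Ext.comp_zero]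
      | insert a t hat ih =>
        intro ht
        rw [Finset.sum_insert hat, Ext.mk₀_add, Ext.comp_add, Ext.mk₀_smul, Ext.comp_smul,
          hI a (hs a (ht (Finset.mem_insert_self a t))), ih ((Finset.subset_insert _ _).trans ht), add_zero]
    rw [← Ext.comp_mk₀_id e, ← Ext.comp_smul, ← Ext.mk₀_smul, hid]
    exact key s subset_rfl
  obtain ⟨N, hN⟩ := Ideal.exists_pow_le_of_le_radical_of_fg hx (IsNoetherian.noetherian _)
  haveI : IsNoetherian R X := by
    haveI := (GrothLib.LC.finite_iff_isArtinian_of_pow_smul (M := X) (maximalIdeal R) (N := N)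
      fun a ha e => Module.mem_annihilator.1 (hN ha) e).2 inferInstance
    exact isNoetherian_of_isNoetherianRing_of_finite R X
  exact isFiniteLength_iff_isNoetherian_isArtinian.2 ⟨inferInstance, inferInstance⟩

end GrothLib.HLVT
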